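import Cfsg.Agent.H30.RankTwo
import Cfsg.Agent.H6.MaxClass
import Cfsg.Agent.H30.MetacyclicApps
import Cfsg.Agent.H77.ThompsonTwo

/-!
`p`-groups of rank at most two, `p` odd: top powers, the power maps of Blackburn's families, groups of
order `p ^ 3`, and centralizers outside the maximal abelian part of a group of maximal class.
-/

set_option autoImplicit false
set_option linter.all false

namespace H81.Iso

open Subgroup
open scoped commutatorElement

universe u

variable {p : ℕ} [hp : Fact p.Prime]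

omit hp in
theorem prank_of_injective {G H : Type*} [Group G] [Group H] (f : H →* G) (hf : Function.Injective f)
    {k : ℕ} (h : Cfsg.PRankLE p k G) : Cfsg.PRankLE p k H := by
  intro A hA hAp
  haveI := hA
  rw [show Nat.card A = Nat.card ↥(A.map f) from (card_map_of_injective hf).symm]
  refine h _ inferInstance ?_
  rintro _ ⟨a, ha, rfl⟩
  rw [← map_pow, hAp a ha, map_one]

/-- The subgroup generated by commuting elements killed by `p` is elementary. -/
theorem closure_elementary {G : Type*} [Group G] {T : Set G} (hT : ∀ a ∈ T, ∀ b ∈ T, Commute a b)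
    (hTp : ∀ a ∈ T, a ^ p = 1) :
    IsMulCommutative ↥(closure T) ∧ ∀ a ∈ closure T, a ^ p = 1 := by
  have hc : closure T ≤ centralizer (closure T : Set G) := by
    rw [centralizer_closure]
    exact (closure_le _).2 fun a ha b hb => hT b hb a ha
  have hcomm : IsMulCommutative ↥(closure T) :=
    ⟨⟨fun a b => Subtype.ext (mem_centralizer_iff.1 (hc b.2) a a.2)⟩⟩
  refine ⟨hcomm, fun a ha => ?_⟩
  induction ha using closure_induction with
  | mem a ha => exact hTp a ha
  | one => exact one_pow p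
  | mul a b ha hb iha ihb =>
    have h1 : Commute a b := mem_centralizer_iff.1 (hc hb) a ha
    rw [h1.mul_pow, iha, ihb, one_mul]
  | inv a _ ih => rw [inv_pow, ih, inv_one]

/-- In rank two, an element killed by `p` centralizing an elementary group of order `p ^ 2` lies in it. -/
theorem mem_of_rank {G : Type*} [Group G] [Finite G] (hrk : Cfsg.PRankLE p 2 G) {A : Subgroup G}
    (hA : ∀ a ∈ A, ∀ b ∈ A, Commute a b) (hAp : ∀ a ∈ A, a ^ p = 1) (hcard : p ^ 2 ≤ Nat.card A)
    {g : G} (hg : ∀ a ∈ A, Commute g a) (hgp : g ^ p = 1) : g ∈ A := by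
  obtain ⟨h1, h2⟩ := closure_elementary (p := p) (T := insert g (A : Set G))
    (by
      rintro a (rfl | ha) b (rfl | hb)
      · exact Commute.refl _
      · exact hg b hb
      · exact (hg a ha).symm
      · exact hA a ha b hb)
    (by
      rintro a (rfl | ha)
      · exact hgp
      · exact hAp a ha)
  have h3 := hrk _ h1 h2
  have hle : A ≤ closure (insert g (A : Set G)) := fun a ha => subset_closure (Or.inr ha)
  rw [eq_of_le_of_card_ge hle (h3.trans hcard)]
  exact subset_closure (Or.inl rfl)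

/-- Two commuting elements killed by `p`, the second outside the powers of the first, span order `p ^ 2`. -/
theorem card_pair {G : Type*} [Group G] [Finite G] {t y : G} (ht : orderOf t = p) (hy : y ^ p = 1)
    (hty : Commute t y) (hyt : y ∉ zpowers t) :
    IsMulCommutative ↥(closure ({t, y} : Set G)) ∧ (∀ a ∈ closure ({t, y} : Set G), a ^ p = 1) ∧
      p ^ 2 ≤ Nat.card ↥(closure ({t, y} : Set G)) := by
  obtain ⟨h1, h2⟩ := closure_elementary (p := p) (T := ({t, y} : Set G))
    (by
      rintro a (rfl | rfl) b (rfl | rfl)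
      · exact Commute.refl _
      · exact hty
      · exact hty.symm
      · exact Commute.refl _)
    (by
      rintro a (rfl | rfl)
      · rw [← ht, pow_orderOf_eq_one]
      · exact hy)
  refine ⟨h1, h2, ?_⟩
  set A := closure ({t, y} : Set G)
  have hA : IsPGroup p A := fun a => ⟨1, Subtype.ext (by rw [pow_one]; exact h2 a a.2)⟩
  obtain ⟨i, hi⟩ := IsPGroup.iff_card.1 hA
  rw [hi]
  refine Nat.pow_le_pow_right hp.out.pos ?_
  by_contra hlt
  have hle : zpowers t ≤ A := zpowers_le.2 (subset_closure (by simp))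
  have h3 := eq_of_le_of_card_ge hle (by
    rw [hi, Nat.card_zpowers, ht]
    calc p ^ i ≤ p ^ 1 := Nat.pow_le_pow_right hp.out.pos (by omega)
      _ = p := pow_one p)
  exact hyt (h3 ▸ subset_closure (by simp))

/-- In rank two, two central elements of order `p` generate the same subgroup if some noncentral
element is killed by `p`. -/
theorem central_mem_zpowers {G : Type*} [Group G] [Finite G] (hrk : Cfsg.PRankLE p 2 G) {t c : G}
    (ht : orderOf t = p) (htc : t ∈ center G) (hcc : c ∈ center G) (hcp : c ^ p = 1) {y : G}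
    (hyp : y ^ p = 1) (hy : y ∉ center G) : c ∈ zpowers t := by
  by_contra hct
  obtain ⟨h1, h2, h3⟩ := card_pair ht hcp (mem_center_iff.1 hcc t) hct
  have hle : closure ({t, c} : Set G) ≤ center G := by
    rw [closure_le]
    rintro a (rfl | rfl) <;> assumption
  exact hy (hle (mem_of_rank hrk (fun a ha b hb => (mem_center_iff.1 (hle hb) a)) h2 h3
    (fun a ha => (mem_center_iff.1 (hle ha) y)) hyp))

/-- Top powers in a group whose elements of order `p` are central and few. -/
theorem exists_top_pow (hp2 : p ≠ 2) (n : ℕ) :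
    ∀ (A : Type u) [Group A] [Finite A], Nat.card A ≤ n → IsPGroup p A →
      (∀ a : A, a ^ p = 1 → a ∈ center A) → Nontrivial A →
      (Nat.card {a : A // a ^ p = 1} ≤ p ∨
        (Nat.card {a : A // a ^ p = 1} ≤ p ^ 2 ∧ ∃ k, Nat.card A = p ^ (2 * k + 1))) →
      ∃ (m : ℕ) (c : A), orderOf c = p ∧ (∀ a : A, a ^ p ^ (m + 1) = 1) ∧
        (∀ a b : A, (a * b) ^ p ^ m = a ^ p ^ m * b ^ p ^ m) ∧
        (∀ a : A, a ^ p ^ m ∈ zpowers c) ∧ ∃ a : A, a ^ p ^ m = c := by
  induction n with
  | zero => intro A _ _ h; exact absurd h (not_le.2 Nat.card_pos)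
  | succ n ih =>
    intro A _ _ hcard hA hcen hnt hsz
    let Om : Subgroup A :=
      { carrier := {a | a ^ p = 1}
        one_mem' := one_pow p
        mul_mem' := fun {a b} (ha : a ^ p = 1) (hb : b ^ p = 1) => by
          show (a * b) ^ p = 1
          rw [(show Commute a b from mem_center_iff.1 (hcen b hb) a).mul_pow, ha, hb, one_mul]
        inv_mem' := fun {a} (ha : a ^ p = 1) => by show a⁻¹ ^ p = 1; rw [inv_pow, ha, inv_one] }
    have hmem : ∀ a : A, a ∈ Om ↔ a ^ p = 1 := fun a => Iff.rfl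
    haveI hOn : Om.Normal := ⟨fun a ha g => by
      rw [mem_center_iff.1 (hcen a ha) g, mul_inv_cancel_right]; exact ha⟩
    have hOc : Nat.card Om = Nat.card {a : A // a ^ p = 1} := rfl
    obtain ⟨r, hr⟩ := IsPGroup.iff_card.1 (hA.to_subgroup Om)
    obtain ⟨s, hs⟩ := IsPGroup.iff_card.1 (hA.to_quotient Om)
    have hAc : Nat.card A = p ^ (s + r) := by
      rw [Om.card_eq_card_quotient_mul_card_subgroup, hr, hs, ← pow_add]
    have hr0 : 1 ≤ r := by
      by_contra h0
      obtain rfl : r = 0 := by omega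
      obtain ⟨k, hk⟩ := IsPGroup.iff_card.1 hA
      have hd : p ∣ Nat.card A := by
        rcases hA.card_eq_or_dvd with h | h
        · exact absurd h (Finite.one_lt_card (α := A)).ne'
        · exact h
      obtain ⟨a, ha⟩ := exists_prime_orderOf_dvd_card' p hd
      have h1 : a ∈ Om := (hmem a).2 (by rw [← ha, pow_orderOf_eq_one])
      rw [Subgroup.card_eq_one.1 (show Nat.card Om = 1 by rw [hr, pow_zero]), mem_bot] at h1
      rw [h1, orderOf_one] at ha
      exact hp.out.one_lt.ne ha
    by_cases hs0 : s = 0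
    · -- elementary
      have hall : ∀ a : A, a ^ p = 1 := fun a => by
        rw [← hmem]
        have : Subsingleton (A ⧸ Om) := (Nat.card_eq_one_iff_unique.1 (by rw [hs, hs0, pow_zero])).1
        exact (QuotientGroup.eq_one_iff a).1 (Subsingleton.elim _ _)
      have hA1 : Nat.card A = p := by
        have hle : r ≤ 1 := by
          rcases hsz with h | ⟨h, k, hk⟩
          · rw [← hOc, hr] at h
            exact (Nat.pow_le_pow_iff_right hp.out.one_lt).1 (by rwa [pow_one])
          · rw [← hOc, hr] at h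
            have h2 : r ≤ 2 := (Nat.pow_le_pow_iff_right hp.out.one_lt).1 h
            rw [hAc, hs0, zero_add] at hk
            have := Nat.pow_right_injective hp.out.two_le hk
            omega
        rw [hAc, hs0, show 0 + r = 1 by omega, pow_one]
      obtain ⟨c, hc⟩ := exists_prime_orderOf_dvd_card' p (dvd_of_eq hA1.symm)
      have htop : zpowers c = ⊤ := Subgroup.eq_top_of_card_eq _ (by rw [Nat.card_zpowers, hc, hA1])
      refine ⟨0, c, hc, fun a => by rw [zero_add, pow_one]; exact hall a, fun a b => by simp,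
        fun a => htop ▸ mem_top _, c, by rw [pow_zero, pow_one]⟩
    haveI : Nontrivial (A ⧸ Om) := Finite.one_lt_card_iff_nontrivial.1 (by
      rw [hs]; exact Nat.one_lt_pow hs0 hp.out.one_lt)
    have hinj := H30.pow_injective_of_central hp2 _ A le_rfl hA hcen
    have hcenQ : ∀ q : A ⧸ Om, q ^ p = 1 → q ∈ center (A ⧸ Om) := by
      intro q hq
      obtain ⟨a, rfl⟩ := QuotientGroup.mk'_surjective Om q
      rw [mem_center_iff]
      intro q'
      obtain ⟨b, rfl⟩ := QuotientGroup.mk'_surjective Om q'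
      rw [← map_pow, QuotientGroup.mk'_apply, QuotientGroup.eq_one_iff] at hq
      have h1 : (b * a * b⁻¹) ^ p = a ^ p := by
        rw [conj_pow, mem_center_iff.1 (hcen _ ((hmem _).1 hq)) b, mul_inv_cancel_right]
      have h2 : a⁻¹ * (b * a * b⁻¹) ∈ Om := hinj _ _ h1.symm
      rw [← QuotientGroup.eq_one_iff, ← QuotientGroup.mk'_apply, map_mul, map_mul, map_mul, map_inv, map_inv,
        inv_mul_eq_one, eq_mul_inv_iff_mul_eq] at h2
      exact h2.symm
    have hle : Nat.card {q : A ⧸ Om // q ^ p = 1} ≤ Nat.card {a : A // a ^ p = 1} := by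
      have hout : ∀ q : A ⧸ Om, q ^ p = 1 → (q.out ^ p) ^ p = 1 := by
        intro q hq
        rw [← hmem, ← QuotientGroup.eq_one_iff, QuotientGroup.mk_pow, QuotientGroup.out_eq']
        exact hq
      refine Nat.card_le_card_of_injective (fun q => ⟨q.1.out ^ p, hout q.1 q.2⟩) ?_
      intro q q' h
      have h1 : q.1.out⁻¹ * q'.1.out ∈ Om := hinj _ _ (congrArg Subtype.val h)
      rw [← QuotientGroup.eq, QuotientGroup.out_eq', QuotientGroup.out_eq'] at h1
      exact Subtype.ext h1
    have hlt : Nat.card (A ⧸ Om) ≤ n := by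
      have : Nat.card (A ⧸ Om) < Nat.card A := by
        rw [hs, hAc]; exact Nat.pow_lt_pow_right hp.out.one_lt (by omega)
      omega
    obtain ⟨m, c', hc', hk', hmul', him', a', ha'⟩ := ih (A ⧸ Om) hlt (hA.to_quotient Om) hcenQ inferInstance (by
      rcases hsz with h | ⟨h, k, hk⟩
      · exact Or.inl (hle.trans h)
      · by_cases h1 : Nat.card {a : A // a ^ p = 1} ≤ p
        · exact Or.inl (hle.trans h1)
        · refine Or.inr ⟨hle.trans h, k - 1, ?_⟩
          rw [← hOc, hr] at h h1
          have h2 : r ≤ 2 := (Nat.pow_le_pow_iff_right hp.out.one_lt).1 h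
          have h3 : ¬ r ≤ 1 := fun h3 => h1 (by
            calc p ^ r ≤ p ^ 1 := Nat.pow_le_pow_right hp.out.pos h3
              _ = p := pow_one p)
          rw [hAc] at hk
          have := Nat.pow_right_injective hp.out.two_le hk
          rw [hs]
          congr 1
          omega)
    obtain ⟨c0, rfl⟩ := QuotientGroup.mk'_surjective Om c'
    have hc0 : c0 ∉ Om := by
      intro h
      rw [QuotientGroup.mk'_apply, (QuotientGroup.eq_one_iff c0).2 h, orderOf_one] at hc'
      exact hp.out.one_lt.ne hc'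
    have hc0p : c0 ^ p ∈ Om := by
      rw [← QuotientGroup.eq_one_iff, ← QuotientGroup.mk'_apply, map_pow, ← hc', pow_orderOf_eq_one]
    have hdec : ∀ a : A, ∃ (i : ℤ) (w : A), w ∈ Om ∧ a ^ p ^ m = c0 ^ i * w := by
      intro a
      obtain ⟨i, hi⟩ := mem_zpowers_iff.1 (him' (QuotientGroup.mk' Om a))
      rw [← map_zpow, ← map_pow, QuotientGroup.mk'_apply, QuotientGroup.mk'_apply, QuotientGroup.eq] at hi
      exact ⟨i, _, hi, by rw [mul_inv_cancel_left]⟩
    have hpow : ∀ (w : A), w ∈ Om → ∀ i : ℤ, (c0 ^ i * w) ^ p = (c0 ^ p) ^ i := by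
      intro w hw i
      rw [(show Commute (c0 ^ i) w from mem_center_iff.1 (hcen w hw) _).mul_pow, (hmem w).1 hw, mul_one,
        ← zpow_natCast, ← zpow_mul, mul_comm, zpow_mul, zpow_natCast]
    refine ⟨m + 1, c0 ^ p, orderOf_eq_prime hc0p (fun h => hc0 ((hmem c0).2 h)), ?_, ?_, ?_, ?_⟩
    · intro a
      have h1 := hk' (QuotientGroup.mk' Om a)
      rw [← map_pow, QuotientGroup.mk'_apply, QuotientGroup.eq_one_iff] at h1
      rw [pow_succ, pow_mul]
      exact (hmem _).1 h1
    · intro a b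
      obtain ⟨i, u, hu, hau⟩ := hdec a
      obtain ⟨j, v, hv, hbv⟩ := hdec b
      have h1 := hmul' (QuotientGroup.mk' Om a) (QuotientGroup.mk' Om b)
      rw [← map_mul, ← map_pow, ← map_pow, ← map_pow, ← map_mul, QuotientGroup.mk'_apply, QuotientGroup.mk'_apply,
        eq_comm, QuotientGroup.eq] at h1
      set w := (a ^ p ^ m * b ^ p ^ m)⁻¹ * (a * b) ^ p ^ m with hw
      have hab : Commute (a ^ p ^ m) (b ^ p ^ m) := by
        rw [hau, hbv]
        have huc : ∀ z, Commute u z := fun z => (mem_center_iff.1 (hcen u hu) z).symm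
        have hvc : ∀ z, Commute v z := fun z => (mem_center_iff.1 (hcen v hv) z).symm
        exact (((Commute.refl c0).zpow_zpow i j).mul_right (hvc _).symm).mul_left (huc _)
      have hwc : Commute (a ^ p ^ m * b ^ p ^ m) w := mem_center_iff.1 (hcen w h1) _
      rw [pow_succ, pow_mul, pow_mul, pow_mul,
        show (a * b) ^ p ^ m = a ^ p ^ m * b ^ p ^ m * w by rw [hw, mul_inv_cancel_left],
        hwc.mul_pow, (hmem w).1 h1, mul_one, hab.mul_pow]
    · intro a
      obtain ⟨i, u, hu, hau⟩ := hdec a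
      rw [pow_succ, pow_mul, hau, hpow u hu i]
      exact zpow_mem (mem_zpowers _) i
    · obtain ⟨a, rfl⟩ := QuotientGroup.mk'_surjective Om a'
      refine ⟨a, ?_⟩
      rw [← map_pow, QuotientGroup.mk'_apply, QuotientGroup.mk'_apply, eq_comm, QuotientGroup.eq] at ha'
      rw [pow_succ, pow_mul, show a ^ p ^ m = c0 ^ (1 : ℤ) * (c0⁻¹ * a ^ p ^ m) by simp, hpow _ ha' 1, zpow_one]

/-- `(a * w) ^ k` when the iterated commutator of `a` and `w` is central in their span. -/
theorem mul_pow_three {G : Type*} [Group G] {a w c d : G} (hc : w * a * w⁻¹ = a * c) (hd : w * c * w⁻¹ = c * d)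
    (hac : Commute a c) (had : Commute a d) (hcd : Commute c d) (hwd : Commute w d) (k : ℕ) :
    (a * w) ^ k = a ^ k * c ^ k.choose 2 * d ^ k.choose 3 * w ^ k := by
  induction k with
  | zero => simp
  | succ k ih =>
    calc (a * w) ^ (k + 1) = a * (w * (a ^ k * c ^ k.choose 2 * d ^ k.choose 3) * w⁻¹) * (w * w ^ k) := by
          rw [pow_succ', ih]; group
      _ = a * ((a * c) ^ k * (c * d) ^ k.choose 2 * d ^ k.choose 3) * (w * w ^ k) := by
          rw [← conj_mul, ← conj_mul, ← conj_pow, ← conj_pow, hc, hd,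
            (show w * d ^ k.choose 3 * w⁻¹ = d ^ k.choose 3 by
              rw [(hwd.pow_right _).eq, mul_inv_cancel_right])]
      _ = (a * a ^ k) * (c ^ k * c ^ k.choose 2) * (d ^ k.choose 2 * d ^ k.choose 3) * (w * w ^ k) := by
          rw [hac.mul_pow, hcd.mul_pow]; group
      _ = _ := by
          rw [← pow_succ', ← pow_succ', ← pow_add, ← pow_add, Nat.choose_succ_succ k 1, Nat.choose_succ_succ k 2,
            Nat.choose_one_right]

omit hp in
/-- An element commuting with a generating set is central. -/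
theorem mem_center_of_gens {G : Type*} [Group G] {T : Set G} (h : closure T = ⊤) {g : G}
    (hg : ∀ t ∈ T, Commute g t) : g ∈ center G := by
  rw [mem_center_iff]
  intro b
  have h1 : (⊤ : Subgroup G) ≤ centralizer ({g} : Set G) := by
    rw [← h, closure_le]
    exact fun t ht => mem_centralizer_singleton_iff.2 (hg t ht).symm.eq
  exact mem_centralizer_singleton_iff.1 (h1 (mem_top b))

/-- Blackburn's first family: the power map `v ↦ v ^ p ^ (n - 3)`. -/
theorem familyC_pow {P : Type u} [Group P] [Finite P] (hp2 : p ≠ 2) (hna : ¬ IsMulCommutative P)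
    (hrk : Cfsg.PRankLE p 2 P) {c : P} (hcc : c ∈ center P) (hco : orderOf c = p) {n : ℕ}
    {x y z : P} (hgen : closure ({x, y, z} : Set P) = ⊤) (hxp : x ^ p = 1) (hyp : y ^ p = 1)
    (hzp : z ^ p ^ (n - 2) = 1) (hn : 3 ≤ n) (hxz : x * z = z * x) (hyz : y * z = z * y)
    (hxy : x⁻¹ * y * x = y * z ^ p ^ (n - 3)) :
    (n = 3 → ∀ v : P, v ^ p = 1) ∧
    (4 ≤ n → (∀ a b : P, (a * b) ^ p ^ (n - 3) = a ^ p ^ (n - 3) * b ^ p ^ (n - 3)) ∧
      (∀ v : P, v ^ p ^ (n - 3) ∈ zpowers c) ∧ ∃ v : P, v ^ p ^ (n - 3) ≠ 1) := by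
  obtain ⟨m, rfl⟩ : ∃ m, n = m + 3 := ⟨n - 3, by omega⟩
  rw [show m + 3 - 2 = m + 1 by omega, pow_succ, pow_mul] at hzp
  rw [show m + 3 - 3 = m by omega] at hxy ⊢
  set t := z ^ p ^ m with ht
  have hzc : z ∈ center P := mem_center_of_gens hgen (by
    rintro g (rfl | rfl | rfl)
    · exact hxz.symm
    · exact hyz.symm
    · exact Commute.refl _)
  have htc : t ∈ center P := pow_mem hzc _
  have ht1 : t ≠ 1 := by
    intro h
    rw [h, mul_one, mul_assoc, inv_mul_eq_iff_eq_mul] at hxy
    refine hna ⟨⟨fun a b => ?_⟩⟩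
    have hx : x ∈ center P := mem_center_of_gens hgen (by
      rintro g (rfl | rfl | rfl)
      · exact Commute.refl _
      · exact hxy.symm
      · exact hxz)
    have hy : y ∈ center P := mem_center_of_gens hgen (by
      rintro g (rfl | rfl | rfl)
      · exact hxy
      · exact Commute.refl _
      · exact hyz)
    have h1 : (⊤ : Subgroup P) ≤ center P := by
      rw [← hgen, closure_le]
      rintro g (rfl | rfl | rfl) <;> assumption
    exact mem_center_iff.1 (h1 (mem_top b)) a
  have hy : y ∉ center P := by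
    intro h
    rw [mul_assoc, ← mem_center_iff.1 h x, inv_mul_cancel_left] at hxy
    exact ht1 (mul_left_cancel (a := y) (by rw [mul_one]; exact hxy.symm))
  have htn : (zpowers t).Normal := H6.normal_of_le_center (zpowers_le.2 htc)
  -- commutators lie in `⟨t⟩`
  haveI := htn
  have hcomm : ∀ a b : P, ∃ w ∈ zpowers t, b * a = w * (a * b) := by
    set f := QuotientGroup.mk' (zpowers t)
    have hz : f z ∈ center (P ⧸ zpowers t) := by
      rw [mem_center_iff]; intro q
      obtain ⟨a, rfl⟩ := QuotientGroup.mk'_surjective _ q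
      rw [← map_mul, ← map_mul, mem_center_iff.1 hzc a]
    have hft : f t = 1 := (QuotientGroup.eq_one_iff _).2 (mem_zpowers t)
    have hxy' : Commute (f x) (f y) := by
      have h1 := congrArg f hxy
      rw [map_mul, map_mul, map_mul, map_inv, hft, mul_one, mul_assoc, inv_mul_eq_iff_eq_mul] at h1
      exact h1.symm
    have hgen' : closure ({f x, f y, f z} : Set (P ⧸ zpowers t)) = ⊤ := by
      rw [← map_top_of_surjective f (QuotientGroup.mk'_surjective _), ← hgen, MonoidHom.map_closure]
      simp [Set.image_insert_eq]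
    have h1 : (⊤ : Subgroup (P ⧸ zpowers t)) ≤ center _ := by
      rw [← hgen', closure_le]
      rintro g (rfl | rfl | rfl)
      · refine mem_center_of_gens hgen' ?_
        rintro g (rfl | rfl | rfl)
        · exact Commute.refl _
        · exact hxy'
        · exact mem_center_iff.1 hz _
      · refine mem_center_of_gens hgen' ?_
        rintro g (rfl | rfl | rfl)
        · exact hxy'.symm
        · exact Commute.refl _
        · exact mem_center_iff.1 hz _
      · exact hz
    intro a b
    refine ⟨b * a * (a * b)⁻¹, ?_, by rw [inv_mul_cancel_right]⟩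
    rw [← QuotientGroup.eq_one_iff, ← QuotientGroup.mk'_apply, map_mul, map_inv, map_mul, map_mul,
      mem_center_iff.1 (h1 (mem_top (f a))) (f b), mul_inv_cancel]
  have hwp : ∀ w ∈ zpowers t, w ^ p = 1 := by
    intro w hw
    obtain ⟨i, rfl⟩ := mem_zpowers_iff.1 hw
    rw [← zpow_natCast, ← zpow_mul, mul_comm, zpow_mul, zpow_natCast, hzp, one_zpow]
  have hmul : ∀ a b : P, (a * b) ^ p = a ^ p * b ^ p := by
    intro a b
    obtain ⟨w, hw, hab⟩ := hcomm a b
    rw [H30.mul_pow_of_central (x := a) (y := b) (zpowers_le.2 htc hw) hab p,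
      H30.pow_choose_two_eq_one hp2 (hwp w hw), mul_one]
  have hpc : ∀ a b : P, Commute (a ^ p) b := by
    intro a b
    obtain ⟨w, hw, hab⟩ := hcomm a b
    have h1 : b * a * b⁻¹ = w * a := by rw [hab, mul_assoc, mul_assoc, mul_inv_cancel, mul_one]
    have h2 : b * a ^ p * b⁻¹ = a ^ p := by
      rw [← conj_pow, h1, (show Commute w a from (mem_center_iff.1 (zpowers_le.2 htc hw) a).symm).mul_pow,
        hwp w hw, one_mul]
    exact (mul_inv_eq_iff_eq_mul.1 h2).symm
  refine ⟨fun h3 v => ?_, fun h4 => ?_⟩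
  · obtain rfl : m = 0 := by omega
    have hzp' : z ^ p = 1 := by simpa [ht] using hzp
    have hv : v ∈ closure ({x, y, z} : Set P) := hgen ▸ mem_top v
    induction hv using closure_induction with
    | mem g hg => rcases hg with rfl | rfl | rfl <;> assumption
    | one => exact one_pow p
    | mul a b _ _ iha ihb => rw [hmul, iha, ihb, one_mul]
    | inv a _ ih => rw [inv_pow, ih, inv_one]
  obtain ⟨k, rfl⟩ : ∃ k, m = k + 1 := ⟨m - 1, by omega⟩
  have hm : ∀ a b : P, (a * b) ^ p ^ (k + 1) = a ^ p ^ (k + 1) * b ^ p ^ (k + 1) := by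
    intro a b
    rw [pow_succ', pow_mul, hmul, (hpc a _).mul_pow, ← pow_mul, ← pow_mul]
  refine ⟨hm, fun v => ?_, z, ht1⟩
  have htm : t ∈ zpowers c := central_mem_zpowers hrk hco hcc htc hzp hyp hy
  have hv : v ∈ closure ({x, y, z} : Set P) := hgen ▸ mem_top v
  induction hv using closure_induction with
  | mem g hg =>
    rcases hg with rfl | rfl | rfl
    · rw [pow_succ', pow_mul, hxp, one_pow]; exact one_mem _
    · rw [pow_succ', pow_mul, hyp, one_pow]; exact one_mem _
    · exact htm
  | one => rw [one_pow]; exact one_mem _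
  | mul a b _ _ iha ihb => rw [hm]; exact mul_mem iha ihb
  | inv a _ ih => rw [inv_pow]; exact inv_mem ih

/-- Blackburn's second family: the power map, or maximal class for `p ^ n = 3 ^ 4`. -/
theorem familyG_pow {P : Type u} [Group P] [Finite P] (hp2 : p ≠ 2) (hrk : Cfsg.PRankLE p 2 P)
    {c : P} (hcc : c ∈ center P) (hco : orderOf c = p) {n : ℕ} (hn : Nat.card P = p ^ n) (h4 : 4 ≤ n) {s : ℕ}
    {x y z : P} (hs : s = 1 ∨ ¬ IsSquare (s : ZMod p)) (hgen : closure ({x, y, z} : Set P) = ⊤) (hxp : x ^ p = 1)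
    (hyp : y ^ p = 1) (hzp : z ^ p ^ (n - 2) = 1) (hyz : y * z = z * y)
    (hxy : x⁻¹ * y * x = y * z ^ (s * p ^ (n - 3))) (hxz : x⁻¹ * z * x = y * z) :
    ((∀ a b : P, (a * b) ^ p ^ (n - 3) = a ^ p ^ (n - 3) * b ^ p ^ (n - 3)) ∧
      (∀ v : P, v ^ p ^ (n - 3) ∈ zpowers c) ∧ ∃ v : P, v ^ p ^ (n - 3) ≠ 1) ∨
    (p = 3 ∧ (⊤ : Subgroup P).lowerCentralSeries (n - 2) ≠ ⊥) := by
  classical
  obtain ⟨m, rfl⟩ : ∃ m, n = m + 4 := ⟨n - 4, by omega⟩
  have hP : IsPGroup p P := IsPGroup.of_card hn
  rw [show m + 4 - 2 = m + 1 + 1 by omega, pow_succ, pow_mul] at hzp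
  rw [show m + 4 - 3 = m + 1 by omega] at hxy ⊢
  set t := z ^ p ^ (m + 1) with ht
  rw [mul_comm s, pow_mul, ← ht] at hxy
  have hps : ¬ p ∣ s := by
    rcases hs with rfl | h
    · exact hp.out.not_dvd_one
    · intro h2
      exact h ⟨0, by rw [(ZMod.natCast_eq_zero_iff _ _).2 h2, mul_zero]⟩
  have hconj : ∀ g : P, ∀ i : ℕ, x⁻¹ * g ^ i * x = (x⁻¹ * g * x) ^ i := fun g i => by
    simpa using (conj_pow (a := x⁻¹) (b := g) (i := i)).symm
  have hzpc : z ^ p ∈ center P := mem_center_of_gens hgen (by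
    simp only [Set.mem_insert_iff, Set.mem_singleton_iff, forall_eq_or_imp, forall_eq]
    refine ⟨?_, ?_, ?_⟩
    · have h1 : x⁻¹ * z ^ p * x = z ^ p := by
        rw [hconj, hxz, (show Commute y z from hyz).mul_pow, hyp, one_mul]
      rw [mul_assoc, inv_mul_eq_iff_eq_mul] at h1
      exact h1
    · exact ((show Commute y z from hyz).pow_right p).symm
    · exact Commute.pow_self z p)
  have htc : t ∈ center P := by
    rw [ht, pow_succ', pow_mul]; exact pow_mem hzpc _
  set A := closure ({y, z} : Set P) with hA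
  have hAcomm : ∀ a ∈ A, ∀ b ∈ A, Commute a b := by
    intro a ha b hb
    have h1 : A ≤ centralizer (A : Set P) := by
      rw [hA, centralizer_closure]
      refine (closure_le _).2 fun a ha b hb => ?_
      rcases ha with rfl | rfl <;> rcases hb with rfl | rfl
      · rfl
      · exact hyz.symm
      · exact hyz
      · rfl
    exact mem_centralizer_iff.1 (h1 hb) a ha
  have hyA : y ∈ A := subset_closure (by simp)
  have hzA : z ∈ A := subset_closure (by simp)
  have htA : t ∈ A := pow_mem hzA _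
  have hAn : A.Normal := by
    rw [← normalizer_eq_top_iff, eq_top_iff, ← hgen, closure_le]
    have hx : x⁻¹ ∈ normalizer (A : Set P) := by
      have hmap : A ≤ A.comap (MulAut.conj x⁻¹).toMonoidHom := by
        rw [hA, closure_le]
        rintro g (hg | hg)
        · rw [SetLike.mem_coe, mem_comap, MulEquiv.coe_toMonoidHom, MulAut.conj_apply, inv_inv, hg, hxy]
          exact mul_mem hyA (pow_mem htA s)
        · rw [Set.mem_singleton_iff] at hg
          rw [SetLike.mem_coe, mem_comap, MulEquiv.coe_toMonoidHom, MulAut.conj_apply, inv_inv, hg, hxz]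
          exact mul_mem hyA hzA
      refine Subgroup.mem_normalizer_fintype (fun a ha => ?_)
      have := hmap ha
      simpa using this
    simp only [Set.insert_subset_iff, Set.singleton_subset_iff, SetLike.mem_coe]
    exact ⟨by simpa using inv_mem hx, le_normalizer hyA, le_normalizer hzA⟩
  haveI := hAn
  have hdec : ∀ v : P, ∃ a ∈ A, ∃ i : ℤ, a * x ^ i = v := by
    intro v
    refine (H30.mem_sup_zpowers (by rw [normalizer_eq_top_iff.2 hAn]; trivial)).1 ?_
    have : A ⊔ zpowers x = ⊤ := by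
      rw [eq_top_iff, ← hgen, closure_le]
      simp only [Set.insert_subset_iff, Set.singleton_subset_iff, SetLike.mem_coe]
      exact ⟨mem_sup_right (mem_zpowers x), mem_sup_left hyA, mem_sup_left hzA⟩
    rw [this]; trivial
  have ht1 : t ≠ 1 := by
    intro h
    have hAle : Nat.card A ≤ p * p ^ (m + 1) := by
      have hcomm : ∀ u ∈ zpowers y, ∀ v ∈ zpowers z, u * v = v * u := by
        intro u hu v hv
        obtain ⟨i, rfl⟩ := mem_zpowers_iff.1 hu
        obtain ⟨j, rfl⟩ := mem_zpowers_iff.1 hv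
        exact ((show Commute y z from hyz).zpow_zpow i j).eq
      have h1 := H77.card_sup_mul_card_inf hcomm
      have h2 : A ≤ zpowers y ⊔ zpowers z := by
        rw [hA, closure_le]
        rintro g (rfl | rfl)
        · exact mem_sup_left (mem_zpowers _)
        · exact mem_sup_right (mem_zpowers _)
      refine (card_le_of_le h2).trans ?_
      calc Nat.card ↥(zpowers y ⊔ zpowers z)
          ≤ Nat.card ↥(zpowers y ⊔ zpowers z) * Nat.card ↥(zpowers y ⊓ zpowers z) :=
            Nat.le_mul_of_pos_right _ Nat.card_pos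
        _ = Nat.card ↥(zpowers y) * Nat.card ↥(zpowers z) := h1
        _ ≤ p * p ^ (m + 1) := by
          rw [Nat.card_zpowers, Nat.card_zpowers]
          exact Nat.mul_le_mul (orderOf_le_of_pow_eq_one hp.out.pos hyp)
            (orderOf_le_of_pow_eq_one (pow_pos hp.out.pos _) h)
    have hPle : Nat.card P ≤ Nat.card (↥A × ↥(zpowers x)) := by
      refine Nat.card_le_card_of_surjective (fun q => (q.1 : P) * (q.2 : P)) fun v => ?_
      obtain ⟨a, ha, i, rfl⟩ := hdec v
      exact ⟨(⟨a, ha⟩, ⟨x ^ i, zpow_mem (mem_zpowers x) i⟩), rfl⟩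
    rw [Nat.card_prod, Nat.card_zpowers, hn] at hPle
    have h5 : p ^ (m + 4) ≤ p ^ (m + 3) := hPle.trans
      ((Nat.mul_le_mul hAle (orderOf_le_of_pow_eq_one hp.out.pos hxp)).trans_eq (by ring))
    have := (Nat.pow_le_pow_iff_right hp.out.one_lt).1 h5
    omega
  have hto : orderOf t = p := orderOf_eq_prime hzp ht1
  have hts : t ^ s ≠ 1 := fun h => hps (hto ▸ orderOf_dvd_of_pow_eq_one h)
  have hy : y ∉ center P := by
    intro h
    rw [mul_assoc, ← mem_center_iff.1 h x, inv_mul_cancel_left] at hxy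
    exact hts (mul_left_cancel (a := y) (by rw [mul_one]; exact hxy.symm))
  by_cases hm3 : p = 3 ∧ m = 0
  · refine Or.inr ⟨hm3.1, ?_⟩
    obtain ⟨-, rfl⟩ := hm3
    show (⊤ : Subgroup P).lowerCentralSeries 2 ≠ ⊥
    intro hbot
    have h1 : y⁻¹ * (x⁻¹ * y * x) = t ^ s := by rw [hxy, inv_mul_cancel_left]
    have h2 : ⁅x⁻¹, z⁆ ∈ (⊤ : Subgroup P).lowerCentralSeries 1 := by
      rw [Subgroup.top_lowerCentralSeries_one, _root_.commutator_def]
      exact commutator_mem_commutator (mem_top _) (mem_top _)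
    have h3 : ⁅x⁻¹, z⁆ = y := by
      rw [commutatorElement_def, inv_inv, show x⁻¹ * z * x * z⁻¹ = (x⁻¹ * z * x) * z⁻¹ by group, hxz,
        mul_inv_cancel_right]
    rw [h3] at h2
    have h4 : ⁅y⁻¹, x⁻¹⁆ ∈ (⊤ : Subgroup P).lowerCentralSeries 2 :=
      Subgroup.commutator_mem_commutator (inv_mem h2) (mem_top x⁻¹)
    rw [hbot, mem_bot, commutatorElement_def, inv_inv, inv_inv] at h4
    exact hts (by rw [← h1, ← h4]; group)
  refine Or.inl ?_
  -- elements of order `p` of `A`
  have hyt : y ∉ zpowers t := fun h => hy (zpowers_le.2 htc h)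
  obtain ⟨hEc, hEp, hEcard⟩ := card_pair hto hyp (mem_center_iff.1 htc y).symm hyt
  set E := closure ({t, y} : Set P) with hE
  have hEA : E ≤ A := by
    rw [hE, closure_le]
    rintro g (rfl | rfl)
    · exact htA
    · exact hyA
  have hEin : ∀ g ∈ A, g ^ p = 1 → g ∈ E := fun g hg hgp => mem_of_rank hrk
    (fun a ha b hb => hAcomm a (hEA ha) b (hEA hb)) hEp hEcard (fun a ha => hAcomm g hg a (hEA ha)) hgp
  have hEn : E.Normal := ⟨fun a ha g => hEin _ (hAn.conj_mem a (hEA ha) g) (by
    rw [conj_pow, hEp a ha, mul_one, mul_inv_cancel])⟩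
  have hEle : Nat.card E ≤ p ^ 2 := hrk _ hEc hEp
  have d : H30.OmData p E := ⟨hp2, hP, hEn, hEle, H30.le_centralizer_self_of_isMulCommutative hEc, hEp,
    fun g hg hgp => mem_of_rank hrk (fun a ha b hb => hAcomm a (hEA ha) b (hEA hb)) hEp hEcard
      (fun a ha => (mem_centralizer_iff.1 hg a ha).symm) hgp⟩
  -- `p`-th powers of `A` are central
  have hApc : ∀ a ∈ A, a ^ p ∈ center P := by
    intro a ha
    have : a ^ p ∈ center P ∧ a ∈ A := by
      rw [hA] at ha
      induction ha using closure_induction with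
      | mem g hg =>
        rcases hg with rfl | rfl
        · exact ⟨by rw [hyp]; exact one_mem _, hyA⟩
        · exact ⟨hzpc, hzA⟩
      | one => exact ⟨by rw [one_pow]; exact one_mem _, one_mem _⟩
      | mul a b _ _ iha ihb =>
        exact ⟨by rw [(hAcomm a iha.2 b ihb.2).mul_pow]; exact mul_mem iha.1 ihb.1, mul_mem iha.2 ihb.2⟩
      | inv a _ ih => exact ⟨by rw [inv_pow]; exact inv_mem ih.1, inv_mem ih.2⟩
    exact this.1
  set N := p ^ (m + 1) with hN
  have hkey : ∀ a ∈ A, ∀ i : ℤ, (a * x ^ i) ^ N = a ^ N := by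
    intro a ha i
    set w := x ^ i with hw
    have hwp : w ^ p = 1 := by
      rw [hw, ← zpow_natCast, ← zpow_mul, mul_comm, zpow_mul, zpow_natCast, hxp, one_zpow]
    set c1 := a⁻¹ * (w * a * w⁻¹) with hc1
    have hwa : w * a * w⁻¹ ∈ A := hAn.conj_mem a ha w
    have hc1A : c1 ∈ A := mul_mem (inv_mem ha) hwa
    have hc1p : c1 ^ p = 1 := by
      rw [hc1, (hAcomm _ (inv_mem ha) _ hwa).mul_pow, inv_pow, conj_pow, mem_center_iff.1 (hApc a ha) w,
        mul_inv_cancel_right, inv_mul_cancel]
    have hc1E := hEin c1 hc1A hc1p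
    set d1 := c1⁻¹ * (w * c1 * w⁻¹) with hd1
    have hd1Z : d1 ∈ E ⊓ center P := by
      have h1 := d.comm' hc1E w⁻¹
      rwa [inv_inv] at h1
    have hform := mul_pow_three (a := a) (w := w) (c := c1) (d := d1) (by rw [hc1, mul_inv_cancel_left])
      (by rw [hd1, mul_inv_cancel_left]) (hAcomm a ha c1 hc1A) (mem_center_iff.1 hd1Z.2 a)
      (mem_center_iff.1 hd1Z.2 c1) (mem_center_iff.1 hd1Z.2 w) p
    rw [H30.pow_choose_two_eq_one hp2 hc1p, mul_one, hwp, mul_one] at hform
    have hd1p : d1 ^ p = 1 := hEp _ hd1Z.1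
    rw [hN, pow_succ', pow_mul, pow_mul, hform,
      (show Commute (a ^ p) (d1 ^ p.choose 3) from (show Commute (a ^ p) d1 from mem_center_iff.1 hd1Z.2 (a ^ p)).pow_right _).mul_pow]
    rcases m.eq_zero_or_pos with rfl | hpos
    · have hp3 : p ≠ 3 := fun h => hm3 ⟨h, rfl⟩
      obtain ⟨q, hq⟩ : p ∣ p.choose 3 := hp.out.dvd_choose_self (by norm_num) (by
        have := hp.out.two_le; omega)
      rw [hq, pow_mul, hd1p, one_pow, one_pow, mul_one]
    · obtain ⟨k, rfl⟩ : ∃ k, m = k + 1 := ⟨m - 1, by omega⟩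
      rw [← pow_mul d1, show p.choose 3 * p ^ (k + 1) = p * (p ^ k * p.choose 3) by ring, pow_mul d1 p, hd1p,
        one_pow, mul_one]
  have hcenN : ∀ a ∈ A, a ^ N ∈ center P := fun a ha => by
    rw [hN, pow_succ', pow_mul]; exact pow_mem (hApc a ha) _
  have hmul : ∀ a b : P, (a * b) ^ N = a ^ N * b ^ N := by
    intro a b
    obtain ⟨a, ha, i, rfl⟩ := hdec a
    obtain ⟨b, hb, j, rfl⟩ := hdec b
    have hb' : x ^ i * b * (x ^ i)⁻¹ ∈ A := hAn.conj_mem b hb _
    rw [show a * x ^ i * (b * x ^ j) = a * (x ^ i * b * (x ^ i)⁻¹) * x ^ (i + j) by rw [zpow_add]; group,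
      hkey _ (mul_mem ha hb'), hkey a ha, hkey b hb, (hAcomm a ha _ hb').mul_pow]
    congr 1
    rw [conj_pow, mem_center_iff.1 (hcenN b hb) (x ^ i), mul_inv_cancel_right]
  refine ⟨hmul, fun v => ?_, z, ht1⟩
  have htm : t ∈ zpowers c := central_mem_zpowers hrk hco hcc htc hzp hyp hy
  have hv : v ∈ closure ({x, y, z} : Set P) := hgen ▸ mem_top v
  induction hv using closure_induction with
  | mem g hg =>
    rcases hg with rfl | rfl | rfl
    · rw [hN, pow_succ', pow_mul, hxp, one_pow]; exact one_mem _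
    · rw [hN, pow_succ', pow_mul, hyp, one_pow]; exact one_mem _
    · exact htm
  | one => rw [one_pow]; exact one_mem _
  | mul a b _ _ iha ihb => rw [hmul]; exact mul_mem iha ihb
  | inv a _ ih => rw [inv_pow]; exact inv_mem ih

/-- A group of order `p ^ 3` with all elements killed by `p`, not abelian, is extraspecial. -/
theorem extraspecial_of_cube {P : Type u} [Group P] [Finite P] (hn : Nat.card P = p ^ 3)
    (hna : ¬ IsMulCommutative P) (hexp : ∀ v : P, v ^ p = 1) : Cfsg.IsExtraspecial p P := by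
  have hP : IsPGroup p P := IsPGroup.of_card hn
  obtain ⟨j, m, hj, hjm, hZ, hm⟩ := H6.exists_card_quotient_center (by norm_num) hn
  have hm2 : 2 ≤ m := by
    by_contra h
    exact hna (H6.isMulCommutative_of_card_quotient_center_le hm (by omega))
  obtain rfl : j = 1 := by omega
  obtain rfl : m = 2 := by omega
  rw [pow_one] at hZ
  have hle : _root_.commutator P ≤ center P := by
    haveI := IsPGroup.isMulCommutative_of_card_eq_prime_sq hm
    exact Normal.quotient_commutative_iff_commutator_le.1 inferInstance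
  have hne : _root_.commutator P ≠ ⊥ := by
    intro h
    refine hna ⟨⟨fun a b => ?_⟩⟩
    rw [← commutatorElement_eq_one_iff_mul_comm, ← mem_bot, ← h, _root_.commutator_def]
    exact commutator_mem_commutator (mem_top a) (mem_top b)
  have hge := H6.center_le_commutator_of_card hP hZ hne
  refine ⟨⟨hP, le_antisymm ?_ (hge.trans (H6.commutator_le_frattini hP)), le_antisymm hle hge⟩, hZ⟩
  exact H30.frattini_le_of_quotient (p := p) hle fun v => by rw [hexp v]; exact one_mem _

/-- A nonabelian nonmetacyclic group of order `p ^ 3` has exponent `p`. -/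
theorem exponent_of_cube {P : Type u} [Group P] [Finite P] (hn : Nat.card P = p ^ 3)
    (hna : ¬ IsMulCommutative P) (hnm : ¬ Cfsg.IsMetacyclic P) (v : P) : v ^ p = 1 := by
  have hP : IsPGroup p P := IsPGroup.of_card hn
  obtain ⟨i, hi, hio⟩ := (Nat.dvd_prime_pow hp.out).1 (hn ▸ orderOf_dvd_natCard v)
  interval_cases i
  · rw [pow_zero] at hio
    rw [orderOf_eq_one_iff.1 hio, one_pow]
  · rw [pow_one] at hio
    rw [← hio, pow_orderOf_eq_one]
  · exfalso
    apply hnm
    have hidx : (zpowers v).index = p := by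
      have h := (zpowers v).card_mul_index
      rw [Nat.card_zpowers, hio, hn, pow_succ p 2] at h
      exact Nat.eq_of_mul_eq_mul_left (pow_pos hp.out.pos 2) h
    haveI hvn := H6.normal_of_index_eq_prime hP hidx
    exact ⟨zpowers v, hvn, inferInstance,
      isCyclic_of_prime_card (p := p) (by rw [← index_eq_card]; exact hidx)⟩
  · exfalso
    have htop : zpowers v = ⊤ := Subgroup.eq_top_of_card_eq _ (by rw [Nat.card_zpowers, hio, hn])
    refine hna ⟨⟨fun a b => ?_⟩⟩
    obtain ⟨i, rfl⟩ := mem_zpowers_iff.1 (htop ▸ mem_top a)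
    obtain ⟨j, rfl⟩ := mem_zpowers_iff.1 (htop ▸ mem_top b)
    exact ((Commute.refl v).zpow_zpow i j).eq

/-- With a centre of order `p`, an element of order `p` outside `C(E)` meets it in `E` only. -/
theorem inf_centralizer_le {P : Type u} [Group P] [Finite P] {E : Subgroup P} (d : H30.OmData p E)
    {c0 : P} (hc0E : c0 ∈ E) (hZ : center P = zpowers c0) {y : P} (hy : y ∉ centralizer (E : Set P))
    (hyp : y ^ p = 1) {c : P} (hc : c ∈ centralizer (E : Set P)) (hcy : Commute c y) : c ∈ E := by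
  classical
  haveI := d.normal
  haveI := d.cen_normal
  have hG := d.isPGroup
  have hp2 := d.odd
  have hEc : ¬ E ≤ center P := fun h => hy (by rw [centralizer_eq_top_iff_subset.2 h]; trivial)
  have hcard := (d.card_eq_of_not_le_center hEc).1
  set C := centralizer (E : Set P) with hC
  set f := QuotientGroup.mk' E with hf
  by_cases hcycQ : IsCyclic ↥(C.map f)
  · -- `C(E)` is abelian
    obtain ⟨q, hq⟩ := (C.map f).isCyclic_iff_exists_zpowers_eq_top.1 hcycQ
    have hqm : q ∈ C.map f := hq ▸ mem_zpowers q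
    obtain ⟨r, hr, rfl⟩ := hqm
    have hdec : ∀ g ∈ C, ∃ e ∈ E, ∃ i : ℤ, g = r ^ i * e := by
      intro g hg
      obtain ⟨i, hi⟩ := mem_zpowers_iff.1 (hq.ge (mem_map_of_mem f hg))
      rw [← map_zpow, hf, QuotientGroup.mk'_apply, QuotientGroup.mk'_apply, QuotientGroup.eq] at hi
      exact ⟨_, hi, i, by rw [mul_inv_cancel_left]⟩
    have hAc : ∀ a ∈ C, Commute c a := by
      intro a ha
      obtain ⟨e, he, i, rfl⟩ := hdec a ha
      obtain ⟨e', he', j, rfl⟩ := hdec c hc
      have h1 : Commute (r ^ j) e := (mem_centralizer_iff.1 (zpow_mem hr j) e he).symm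
      have h2 : Commute e' (r ^ i) := mem_centralizer_iff.1 (zpow_mem hr i) e' he'
      have h3 : Commute e' e := mem_centralizer_iff.1 (d.le_cen he) e' he'
      exact ((((Commute.refl r).zpow_zpow j i).mul_right h1).mul_left (h2.mul_right h3))
    have hcen : c ∈ center P := by
      rw [mem_center_iff]
      intro g
      have htop := (d.sup_zpowers_eq_top hcard hy).2
      obtain ⟨a, ha, i, hai⟩ := (H30.mem_sup_zpowers (by rw [normalizer_eq_top_iff.2 d.cen_normal]; trivial)).1
        (htop.symm ▸ mem_top g : g ∈ C ⊔ zpowers y)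
      rw [← hai]
      exact ((hAc a ha).mul_right (hcy.zpow_right i)).eq.symm
    exact zpowers_le.2 hc0E (hZ ▸ hcen)
  have hrel : p ^ 2 ≤ E.relIndex d.om2 := by
    have hle : d.om2.map f ≤ C.map f := Subgroup.map_mono fun a ha => ha.1
    have hmap : E.relIndex d.om2 = Nat.card (d.om2.map f) := by rw [← relIndex_ker, QuotientGroup.ker_mk']
    rw [hmap]
    by_contra hlt
    apply hcycQ
    refine H30.isCyclic_of_killed_le hp2 ((hG.to_quotient E).to_subgroup _)
      ((d.om2.map f).subgroupOf (C.map f)) ?_ ?_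
    · rw [Nat.card_congr (subgroupOfEquivOfLe hle).toEquiv]
      obtain ⟨i, hi⟩ := IsPGroup.iff_card.1 ((hG.to_quotient E).to_subgroup (d.om2.map f))
      rw [hi] at hlt ⊢
      calc p ^ i ≤ p ^ 1 := Nat.pow_le_pow_right hp.out.pos (by
            by_contra h
            exact hlt (Nat.pow_le_pow_right hp.out.pos (by omega)))
        _ = p := pow_one p
    · intro q hq
      obtain ⟨g, hg, hgq⟩ := q.2
      rw [mem_subgroupOf, ← hgq]
      refine mem_map_of_mem _ ⟨hg, ?_⟩
      have h1 : (q : P ⧸ E) ^ p = 1 := by rw [← SubgroupClass.coe_pow, hq]; rfl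
      rw [← hgq, ← map_pow] at h1
      exact (QuotientGroup.eq_one_iff _).1 h1
  by_contra hcE
  obtain ⟨k, hk, hk'⟩ := H30.exists_last_pow hG (P := fun v => v ∉ E) (not_not.2 (one_mem _)) (x := c) hcE
  rw [not_not] at hk'
  set v := c ^ p ^ k with hv
  have hvy : Commute v y := hcy.pow_left _
  have hvC : v ∈ C := pow_mem hc _
  have hvo : v ∈ d.om2 := ⟨hvC, hk'⟩
  have h1 : v ^ p ∈ E ⊓ center P := ⟨hk', d.fixed_mem hy hk' (hvy.pow_left p).symm⟩
  have hv1 : v ^ p ≠ 1 := fun h => hk (d.mem_of_pow v hvC h)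
  obtain ⟨e, he, hec⟩ : ∃ e ∈ E, e ∉ center P := SetLike.not_le_iff_exists.1 hEc
  obtain ⟨r, hr, hre⟩ := d.exists_pow_eq hrel he
  haveI := d.om2_normal
  have hτpow : ∀ (w : P) (N : ℕ), y * w ^ N * y⁻¹ = (y * w * y⁻¹) ^ N := fun w N => conj_pow.symm
  set g := r⁻¹ * (y * r * y⁻¹) with hg
  have hyr : y * r * y⁻¹ ∈ d.om2 := Normal.conj_mem inferInstance r hr y
  have hgo : g ∈ d.om2 := mul_mem (inv_mem hr) hyr
  have hgp : g ^ p = e⁻¹ * (y * e * y⁻¹) := by
    rw [hg, d.om2_mul_pow (inv_mem hr) hyr, inv_pow, ← hτpow, hre]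
  have hgZ : g ^ p ∈ E ⊓ center P := by
    rw [hgp]; simpa using d.comm' he y⁻¹
  have hgp1 : g ^ p ≠ 1 := by
    rw [hgp, Ne, inv_mul_eq_one]
    intro h
    exact hec (d.fixed_mem hy he (eq_mul_inv_iff_mul_eq.1 h).symm)
  obtain ⟨i, hi⟩ := mem_zpowers_iff.1 (d.zpowers_eq_inf_center hEc h1 hv1 ▸ hgZ)
  have hg' : (v ^ i)⁻¹ * g ∈ E := d.inj (zpow_mem hvC i) hgo.1 (by
    rw [← hi, ← zpow_natCast, ← zpow_mul, mul_comm, zpow_mul, zpow_natCast])
  set ε := (v ^ i)⁻¹ * g with hε
  set z := ε⁻¹ * (y * ε * y⁻¹) with hz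
  have hzZ : z ∈ E ⊓ center P := by simpa using d.comm' hg' y⁻¹
  have hyg : y * g * y⁻¹ = g * z := by
    have h3 : g = v ^ i * ε := by rw [hε, mul_inv_cancel_left]
    have h4 : y * v ^ i * y⁻¹ = v ^ i := by rw [((hvy.zpow_left i).symm).eq, mul_inv_cancel_right]
    rw [h3, ← conj_mul, h4, hz]; group
  have hgz : Commute g z := mem_center_iff.1 hzZ.2 g
  have hyz : y * z * y⁻¹ = z := by rw [mem_center_iff.1 hzZ.2 y, mul_inv_cancel_right]
  have hform : ∀ j : ℕ, y ^ j * r * (y ^ j)⁻¹ = r * g ^ j * z ^ j.choose 2 := by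
    intro j
    induction j with
    | zero => simp
    | succ j ih =>
      calc y ^ (j + 1) * r * (y ^ (j + 1))⁻¹ = y * (y ^ j * r * (y ^ j)⁻¹) * y⁻¹ := by rw [pow_succ']; group
        _ = r * g * (g * z) ^ j * z ^ j.choose 2 := by
          rw [ih, ← conj_mul, ← conj_mul, hτpow, hτpow, hyg, hyz,
            show y * r * y⁻¹ = r * g by rw [hg, mul_inv_cancel_left]]
        _ = r * (g * g ^ j) * (z ^ j * z ^ j.choose 2) := by rw [hgz.mul_pow]; group
        _ = _ := by rw [← pow_succ', ← pow_add, Nat.choose_succ_succ, Nat.choose_one_right]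
  have hfin := hform p
  rw [hyp, one_mul, inv_one, mul_one, H30.pow_choose_two_eq_one hp2 (d.killed _ hzZ.1), mul_one,
    eq_comm, mul_eq_left] at hfin
  exact hgp1 hfin

end H81.Iso
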