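import Cfsg.Agent.H81.IsoPGroup
import Cfsg.Agent.H75.Yoshida
import Cfsg.Agent.H68.TransferMod
import Cfsg.Agent.H30.MetacyclicSylow
import Mathlib.GroupTheory.Focal

/-!
Sylow subgroups inside the derived group of the centralizer of a central element of order `p`,
in `p`-rank at most two.
-/

set_option autoImplicit false
set_option linter.all false

namespace H81.Iso

open Subgroup
open scoped commutatorElement

universe u

variable {p : ℕ} [hp : Fact p.Prime]

/-- An abelian Sylow subgroup meets `Z(N) ∩ N'` trivially. -/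
theorem eq_one_of_abelian_sylow {N : Type*} [Group N] [Finite N] (S : Sylow p N)
    (hS : ∀ a ∈ (S : Subgroup N), ∀ b ∈ (S : Subgroup N), Commute a b) {v : N} (hv : v ∈ (S : Subgroup N))
    (hc : v ∈ center N) (hd : v ∈ commutator N) : v = 1 := by
  letI : CommGroup ↥(S : Subgroup N) :=
    { (inferInstance : Group ↥(S : Subgroup N)) with mul_comm := fun a b => Subtype.ext (hS a a.2 b b.2).eq }
  have h1 := H68.transfer_eq_pow_mod (MonoidHom.id ↥(S : Subgroup N)) v hv (fun k a ha => Subtype.ext (by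
    simp only [MonoidHom.id_apply, SubgroupClass.coe_pow]
    rw [mul_assoc, ← mem_center_iff.1 (pow_mem hc k) a, inv_mul_cancel_left]))
  rw [(Abelianization.commutator_subset_ker (MonoidHom.transfer (MonoidHom.id ↥(S : Subgroup N))) hd :
    MonoidHom.transfer (MonoidHom.id ↥(S : Subgroup N)) v = 1)] at h1
  obtain ⟨k, hk⟩ := S.2 ⟨v, hv⟩
  have h2 : (⟨v, hv⟩ : ↥(S : Subgroup N)) = 1 := by
    rw [← orderOf_eq_one_iff]
    refine Nat.eq_one_of_dvd_coprimes (Nat.Coprime.pow_left k ((Nat.Prime.coprime_iff_not_dvd hp.out).2 ?_))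
      (orderOf_dvd_of_pow_eq_one hk) (orderOf_dvd_of_pow_eq_one h1.symm)
    exact S.not_dvd_index
  exact congrArg Subtype.val h2

/-- A homomorphic power map into central elements is trivial on a Sylow subgroup inside `C'`. -/
theorem pow_eq_one_of_hom {C : Type*} [Group C] [Finite C] (P : Sylow p C)
    (hder : (P : Subgroup C) ≤ commutator C) {N : ℕ}
    (hmul : ∀ a ∈ (P : Subgroup C), ∀ b ∈ (P : Subgroup C), (a * b) ^ N = a ^ N * b ^ N)
    (hcen : ∀ a ∈ (P : Subgroup C), a ^ N ∈ center C) {v : C} (hv : v ∈ (P : Subgroup C)) : v ^ N = 1 := by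
  have h1 : v ∈ (P : Subgroup C).focalSubgroup := by
    rw [← Subgroup.commutator_inf_eq_focalSubgroup P]
    exact ⟨hder hv, hv⟩
  have key : v ^ N = 1 ∧ v ∈ (P : Subgroup C) := by
    rw [Subgroup.focalSubgroup_def] at h1
    clear hv
    induction h1 using closure_induction with
    | mem g hg =>
      obtain ⟨hgP, a, ha, u, rfl⟩ := hg
      refine ⟨?_, hgP⟩
      have hw : u * a⁻¹ * u⁻¹ ∈ (P : Subgroup C) := by
        rw [show u * a⁻¹ * u⁻¹ = a⁻¹ * ⁅a, u⁆ by rw [commutatorElement_def]; group]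
        exact mul_mem (inv_mem ha) hgP
      rw [show ⁅a, u⁆ = a * (u * a⁻¹ * u⁻¹) by rw [commutatorElement_def]; group, hmul a ha _ hw, conj_pow,
        inv_pow, mem_center_iff.1 (inv_mem (hcen a ha)) u, mul_inv_cancel_right, mul_inv_cancel]
    | one => exact ⟨one_pow N, one_mem _⟩
    | mul a b _ _ iha ihb =>
      exact ⟨by rw [hmul a iha.2 b ihb.2, iha.1, ihb.1, one_mul], mul_mem iha.2 ihb.2⟩
    | inv a _ ih => exact ⟨by rw [inv_pow, ih.1, inv_one], inv_mem ih.2⟩
  exact key.1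

/-- Metacyclic groups have no wreath image, `p` odd. -/
theorem not_hasWreathImage (hp2 : p ≠ 2) {P : Type*} [Group P] (hm : Cfsg.IsMetacyclic P) :
    ¬ H75.HasWreathImage p P := by
  rintro ⟨W, f, hf⟩
  have hWm := H30.isMetacyclic_of_surjective f hf hm
  let M := Multiplicative (Fin p → ZMod p)
  let g0 : M →* Equiv.Perm (Fin p × ZMod p) := MonoidHom.mk'
    (fun v => ⟨fun q => (q.1, q.2 + v.toAdd q.1), fun q => (q.1, q.2 - v.toAdd q.1),
      fun q => by simp, fun q => by simp⟩)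
    (fun a b => Equiv.ext fun q => Prod.ext rfl (by
      show q.2 + (a.toAdd q.1 + b.toAdd q.1) = q.2 + b.toAdd q.1 + a.toAdd q.1
      ring))
  haveI : NeZero p := ⟨hp.out.ne_zero⟩
  have hcard : Fintype.card (Fin p × ZMod p) = p ^ 2 := by simp [pow_two]
  let g1 : M →* Equiv.Perm (Fin (p ^ 2)) :=
    (Fintype.equivFinOfCardEq hcard).permCongrHom.toMonoidHom.comp g0
  have hg0 : Function.Injective g0 := by
    intro a b h
    apply Multiplicative.toAdd.injective
    funext i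
    have h1 := congrArg (fun σ : Equiv.Perm (Fin p × ZMod p) => (σ (i, 0)).2) h
    simpa [g0] using h1
  have hg1 : Function.Injective g1 := (Fintype.equivFinOfCardEq hcard).permCongrHom.injective.comp hg0
  have hM : ∀ a : M, a ^ p = 1 := fun a => by
    apply Multiplicative.toAdd.injective
    funext i
    show (p • (a.toAdd : Fin p → ZMod p)) i = 0
    simp [nsmul_eq_mul]
  have hMp : IsPGroup p M := fun a => ⟨1, by rw [pow_one, hM a]⟩
  have hrp : IsPGroup p ↥g1.range := hMp.of_surjective g1.rangeRestrict g1.rangeRestrict_surjective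
  obtain ⟨W', hW'⟩ := hrp.exists_le_sylow
  have hW'm : Cfsg.IsMetacyclic ↥(W' : Subgroup (Equiv.Perm (Fin (p ^ 2)))) :=
    H30.isMetacyclic_of_surjective (W.equiv W').toMonoidHom (W.equiv W').surjective hWm
  let g : M →* ↥(W' : Subgroup (Equiv.Perm (Fin (p ^ 2)))) :=
    g1.codRestrict _ (fun a => hW' ⟨a, rfl⟩)
  have hg : Function.Injective g := fun a b h => hg1 (congrArg Subtype.val h)
  have hMm : Cfsg.IsMetacyclic M :=
    H30.isMetacyclic_of_surjective (MonoidHom.ofInjective hg).symm.toMonoidHom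
      (MonoidHom.ofInjective hg).symm.surjective (H30.isMetacyclic_subgroup hW'm g.range)
  obtain ⟨N, hN, hNc, hQc⟩ := hMm
  haveI := hN
  have h1 : Nat.card N ≤ p := by
    obtain ⟨a, ha⟩ := hNc.exists_generator
    rw [← orderOf_eq_card_of_forall_mem_zpowers ha]
    exact orderOf_le_of_pow_eq_one hp.out.pos (Subtype.ext (hM a))
  have h2 : Nat.card (M ⧸ N) ≤ p := by
    obtain ⟨a, ha⟩ := hQc.exists_generator
    rw [← orderOf_eq_card_of_forall_mem_zpowers ha]
    refine orderOf_le_of_pow_eq_one hp.out.pos ?_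
    obtain ⟨b, rfl⟩ := QuotientGroup.mk'_surjective N a
    rw [← map_pow, hM, map_one]
  have h3 : Nat.card M = p ^ p := by simp [M, Nat.card_eq_fintype_card]
  have h4 : p ^ p ≤ p ^ 2 := by
    rw [← h3, N.card_eq_card_quotient_mul_card_subgroup, pow_two]
    exact Nat.mul_le_mul h2 h1
  have := (Nat.pow_le_pow_iff_right hp.out.one_lt).1 h4
  have := hp.out.two_le
  omega

/-- In a metacyclic group of class two, an automorphism-invariant subgroup with a fixed coset. -/
theorem exists_fixed_coset {Q : Type*} [Group Q] [Finite Q] (hp2 : p ≠ 2) (hQ : IsPGroup p Q)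
    (hm : Cfsg.IsMetacyclic Q) {c : Q} (hco : orderOf c = p) (hder : commutator Q = zpowers c) :
    ∃ (M : Subgroup Q) (w : Q), commutator Q ≤ M ∧ w ∉ M ∧ (∀ σ : MulAut Q, ∀ m ∈ M, σ m ∈ M) ∧
      ∀ σ : MulAut Q, σ w * w⁻¹ ∈ M := by
  classical
  have hcZ : commutator Q ≤ center Q :=
    H30.le_center_of_card_le hQ inferInstance (by rw [hder, Nat.card_zpowers, hco])
  have hc1 : c ≠ 1 := fun h => hp.out.one_lt.ne (by rw [← hco, h, orderOf_one])
  have hmem : ∀ u v : Q, ⁅u, v⁆ ∈ commutator Q := fun u v => by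
    rw [_root_.commutator_def]; exact commutator_mem_commutator (mem_top u) (mem_top v)
  have hcp : ∀ q ∈ commutator Q, q ^ p = 1 := by
    intro q hq
    obtain ⟨i, rfl⟩ := mem_zpowers_iff.1 (hder ▸ hq)
    rw [← zpow_natCast, ← zpow_mul, mul_comm, zpow_mul, zpow_natCast, ← hco, pow_orderOf_eq_one, one_zpow]
  have hbl : ∀ u v w : Q, ⁅u * v, w⁆ = ⁅u, w⁆ * ⁅v, w⁆ := fun u v w => by
    have h := mem_center_iff.1 (hcZ (hmem v w)) u
    calc ⁅u * v, w⁆ = u * ⁅v, w⁆ * u⁻¹ * ⁅u, w⁆ := by simp only [commutatorElement_def]; group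
      _ = ⁅v, w⁆ * ⁅u, w⁆ := by rw [h, mul_inv_cancel_right]
      _ = _ := (mem_center_iff.1 (hcZ (hmem v w)) _).symm
  have hbr : ∀ u v w : Q, ⁅u, v * w⁆ = ⁅u, v⁆ * ⁅u, w⁆ := fun u v w => by
    have h := mem_center_iff.1 (hcZ (hmem u w)) v
    calc ⁅u, v * w⁆ = ⁅u, v⁆ * (v * ⁅u, w⁆ * v⁻¹) := by simp only [commutatorElement_def]; group
      _ = _ := by rw [h, mul_inv_cancel_right]
  let L : Q → Q →* Q := fun w => MonoidHom.mk' (fun u => ⁅u, w⁆) fun u v => hbl u v w
  let R : Q → Q →* Q := fun u => MonoidHom.mk' (fun w => ⁅u, w⁆) fun v w => hbr u v w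
  have hzl : ∀ (u w : Q) (i : ℤ), ⁅u ^ i, w⁆ = ⁅u, w⁆ ^ i := fun u w i => map_zpow (L w) u i
  have hzr : ∀ (u w : Q) (i : ℤ), ⁅u, w ^ i⁆ = ⁅u, w⁆ ^ i := fun u w i => map_zpow (R u) w i
  have hcom : ∀ u w : Q, ⁅u, w⁆ = 1 ↔ Commute u w := fun u w => commutatorElement_eq_one_iff_commute
  have hppow : ∀ u : Q, u ^ p ∈ center Q := fun u => mem_center_iff.2 fun w => by
    refine (((hcom (u ^ p) w).1 ?_).eq).symm
    rw [← zpow_natCast, hzl, zpow_natCast, hcp _ (hmem u w)]
  have hmulp : ∀ u v : Q, (u * v) ^ p = u ^ p * v ^ p := fun u v => by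
    rw [H30.mul_pow_of_central (x := u) (y := v) (z := ⁅v, u⁆) (hcZ (hmem v u))
      (by rw [commutatorElement_def]; group) p, H30.pow_choose_two_eq_one hp2 (hcp _ (hmem v u)), mul_one]
  have hmuli : ∀ i : ℕ, 1 ≤ i → ∀ u v : Q, (u * v) ^ p ^ i = u ^ p ^ i * v ^ p ^ i := by
    intro i hi u v
    obtain ⟨j, rfl⟩ : ∃ j, i = j + 1 := ⟨i - 1, by omega⟩
    rw [pow_succ', pow_mul, hmulp, (show Commute (u ^ p) (v ^ p) from mem_center_iff.1 (hppow v) _).mul_pow,
      ← pow_mul, ← pow_mul]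
  -- generators
  obtain ⟨a, b, han, -, -, hgen⟩ := H30.exists_generators_of_isMetacyclic hm
  set c0 := ⁅a, b⁆ with hc0
  have hc0a : c0 ∈ zpowers a := by
    rw [hc0, commutatorElement_def, show a * b * a⁻¹ * b⁻¹ = a * (b * a⁻¹ * b⁻¹) by group]
    exact mul_mem (mem_zpowers a) (han.conj_mem _ (inv_mem (mem_zpowers a)) b)
  have hba : ⁅b, a⁆ = c0⁻¹ := by rw [hc0, commutatorElement_inv]
  have hcoord : ∀ q : Q, ∃ u t : ℤ, ⁅q, b⁆ = c0 ^ u ∧ ⁅a, q⁆ = c0 ^ t ∧ q = a ^ u * b ^ t := by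
    intro q
    obtain ⟨u, t, rfl⟩ := hgen q
    refine ⟨u, t, ?_, ?_, rfl⟩
    · rw [hbl, hzl, hzl, (hcom b b).2 (Commute.refl b), one_zpow, mul_one]
    · rw [hbr, hzr, hzr, (hcom a a).2 (Commute.refl a), one_zpow, one_mul]
  have hzero : ∀ q : Q, ⁅q, b⁆ = 1 → ⁅a, q⁆ = 1 → q ∈ center Q := by
    intro q h1 h2
    rw [mem_center_iff]
    intro r
    obtain ⟨u, t, rfl⟩ := hgen r
    exact ((((hcom a q).1 h2).zpow_left u).mul_left (((hcom q b).1 h1).symm.zpow_left t)).eq
  have hc01 : c0 ≠ 1 := by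
    intro h
    apply hc1
    have hb : b ∈ center Q := hzero b ((hcom b b).2 (Commute.refl b)) h
    have ha : a ∈ center Q := hzero a h ((hcom a a).2 (Commute.refl a))
    have htop : commutator Q = ⊥ := by
      rw [eq_bot_iff, _root_.commutator_def, commutator_le]
      intro u _ v _
      obtain ⟨i, j, rfl⟩ := hgen v
      rw [mem_bot, hcom]
      exact mem_center_iff.1 (mul_mem (zpow_mem ha i) (zpow_mem hb j)) u
    rw [← mem_bot, ← htop, hder]; exact mem_zpowers c
  have hc0o : orderOf c0 = p := orderOf_eq_prime (hcp _ (hmem a b)) hc01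
  have hdvd : ∀ i : ℤ, c0 ^ i = 1 → (p : ℤ) ∣ i := fun i h => by
    rw [← hc0o]; exact orderOf_dvd_iff_zpow_eq_one.2 h
  have hone : ∀ i : ℤ, (p : ℤ) ∣ i → c0 ^ i = 1 := fun i h => by
    rw [← orderOf_dvd_iff_zpow_eq_one, hc0o]; exact h
  have hcgen : zpowers c0 = commutator Q :=
    eq_of_le_of_card_ge (zpowers_le.2 (hmem a b)) (by rw [hder, Nat.card_zpowers, Nat.card_zpowers, hco, hc0o])
  have hcroot : ∃ v : Q, v ^ p ^ 1 = c := by
    obtain ⟨j, hj⟩ := mem_zpowers_iff.1 ((zpowers_le.2 hc0a) (hcgen.ge (hder ▸ mem_zpowers c)))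
    by_cases hpj : (p : ℤ) ∣ j
    · obtain ⟨l, rfl⟩ := hpj
      exact ⟨a ^ l, by rw [pow_one, ← hj, ← zpow_natCast, ← zpow_mul, mul_comm]⟩
    · exfalso
      have ha : a ∈ center Q :=
        H30.mem_of_pow_mem (hppow a) hpj (by rw [hj]; exact hcZ (hder ▸ mem_zpowers c))
      exact hc01 ((hcom a b).2 (mem_center_iff.1 ha b).symm)
  have hcenp : ∀ f ∈ center Q, ∃ u : Q, u ^ p = f := by
    intro f hf
    obtain ⟨u, t, hu, ht, hfq⟩ := hcoord f
    obtain ⟨u', rfl⟩ := hdvd u (hu ▸ (hcom f b).2 (mem_center_iff.1 hf b).symm)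
    obtain ⟨t', rfl⟩ := hdvd t (ht ▸ (hcom a f).2 (mem_center_iff.1 hf a))
    refine ⟨a ^ u' * b ^ t', ?_⟩
    rw [hmulp, hfq, ← zpow_natCast, ← zpow_natCast (b ^ t'), ← zpow_mul, ← zpow_mul, mul_comm u', mul_comm t']
  -- the height of `c`
  set i := Nat.findGreatest (fun j => ∃ v : Q, v ^ p ^ j = c) (Nat.card Q) with hi
  have h1i : 1 ≤ i := Nat.le_findGreatest Nat.card_pos hcroot
  obtain ⟨v0, hv0⟩ : ∃ v : Q, v ^ p ^ i = c :=
    Nat.findGreatest_spec (P := fun j => ∃ v : Q, v ^ p ^ j = c) Nat.card_pos hcroot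
  have hmax : ∀ v : Q, v ^ p ^ (i + 1) ≠ c := by
    intro v hv
    have hlt : i + 1 ≤ Nat.card Q := by
      by_contra hgt
      obtain ⟨k, hk⟩ := IsPGroup.iff_orderOf.1 hQ v
      have h1 : p ^ k ≤ Nat.card Q := hk ▸ Nat.le_of_dvd Nat.card_pos (orderOf_dvd_natCard v)
      have h2 : k ≤ i + 1 := ((Nat.lt_pow_self hp.out.one_lt).le.trans h1).trans (by omega)
      exact hc1 (hv ▸ orderOf_dvd_iff_pow_eq_one.1 (hk ▸ pow_dvd_pow p h2))
    exact Nat.findGreatest_is_greatest (Nat.lt_succ_self i) hlt ⟨v, hv⟩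
  have hmax' : ∀ (k : ℤ), ¬ (p : ℤ) ∣ k → ∀ v : Q, v ^ p ^ (i + 1) ≠ c ^ k := by
    intro k hk v hv
    obtain ⟨α, β, hαβ⟩ : IsCoprime (p : ℤ) k := (Nat.prime_iff_prime_int.1 hp.out).coprime_iff_not_dvd.2 hk
    apply hmax (v ^ β)
    rw [← zpow_natCast, ← zpow_mul, mul_comm, zpow_mul, zpow_natCast, hv, ← zpow_mul]
    conv_rhs => rw [← zpow_one c, ← hαβ, zpow_add, mul_comm α, zpow_mul, zpow_natCast, ← hco, pow_orderOf_eq_one,
      one_zpow, one_mul, mul_comm]
  have hfpow : ∀ f ∈ center Q, ∃ u : Q, f ^ p ^ i = u ^ p ^ (i + 1) := by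
    intro f hf
    obtain ⟨u, rfl⟩ := hcenp f hf
    exact ⟨u, by rw [← pow_mul, pow_succ']⟩
  have hv0Z : v0 ∉ center Q := by
    intro h
    obtain ⟨u, hu⟩ := hfpow v0 h
    exact hmax u (by rw [← hu, hv0])
  -- the pairing
  have hsub : ∀ v : Q, (center Q ⊔ zpowers v).Normal := fun v =>
    H30.normal_of_commutator_le (hcZ.trans le_sup_left)
  have hcent : ∀ v w : Q, v ∉ center Q → ⁅v, w⁆ = 1 → w ∈ center Q ⊔ zpowers v := by
    intro v w hv hvw
    obtain ⟨α, β, hαb, hαa, hvq⟩ := hcoord v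
    obtain ⟨u, t, hub, hua, hwq⟩ := hcoord w
    have hD : (p : ℤ) ∣ α * t - β * u := by
      refine hdvd _ ?_
      rw [← hvw, hvq, hwq, hbl, hbr, hbr, hzl, hzl, hzl, hzl, hzr, hzr, hzr, hzr, (hcom a a).2 (Commute.refl a),
        (hcom b b).2 (Commute.refl b), hba]
      simp only [one_zpow, one_mul, mul_one, inv_zpow']
      rw [← hc0, ← zpow_mul, ← zpow_mul, ← zpow_add]
      congr 1; ring
    have hmk : ∀ (d k : ℤ), (p : ℤ) ∣ u * d + α * k → (p : ℤ) ∣ t * d + β * k → w ^ d * v ^ k ∈ center Q := by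
      intro d k h1 h2
      refine hzero _ ?_ ?_
      · rw [hbl, hzl, hzl, hub, hαb, ← zpow_mul, ← zpow_mul, ← zpow_add]; exact hone _ h1
      · rw [hbr, hzr, hzr, hua, hαa, ← zpow_mul, ← zpow_mul, ← zpow_add]; exact hone _ h2
    have hfin : ∀ (d k : ℤ), ¬ (p : ℤ) ∣ d → w ^ d * v ^ k ∈ center Q → w ∈ center Q ⊔ zpowers v := by
      intro d k hd h
      refine H30.mem_of_pow_mem (mem_sup_left (hppow w)) hd ?_
      have := mul_mem (mem_sup_left h : _ ∈ center Q ⊔ zpowers v)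
        (mem_sup_right (zpow_mem (mem_zpowers v) (-k)))
      rwa [mul_assoc, ← zpow_add, add_neg_cancel, zpow_zero, mul_one] at this
    by_cases hpα : (p : ℤ) ∣ α
    · by_cases hpβ : (p : ℤ) ∣ β
      · exact absurd (hzero v (by rw [hαb]; exact hone _ hpα) (by rw [hαa]; exact hone _ hpβ)) hv
      · refine hfin β (-t) hpβ (hmk β (-t) ?_ ⟨0, by ring⟩)
        rw [show u * β + α * -t = -(α * t - β * u) by ring]
        exact dvd_neg.2 hD
    · refine hfin α (-u) hpα (hmk α (-u) ⟨0, by ring⟩ ?_)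
      rw [show t * α + β * -u = α * t - β * u by ring]
      exact hD
  have hspan : ∀ v w q : Q, ⁅v, w⁆ ≠ 1 → q ∈ center Q ⊔ zpowers v ⊔ zpowers w := by
    intro v w q hvw
    obtain ⟨α, β, hαb, hαa, hvq⟩ := hcoord v
    obtain ⟨u, t, hub, hua, hwq⟩ := hcoord w
    obtain ⟨r, s, hrb, hra, hqq⟩ := hcoord q
    have hD : ¬ (p : ℤ) ∣ α * t - β * u := by
      intro h
      apply hvw
      rw [hvq, hwq, hbl, hbr, hbr, hzl, hzl, hzl, hzl, hzr, hzr, hzr, hzr, (hcom a a).2 (Commute.refl a),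
        (hcom b b).2 (Commute.refl b), hba]
      simp only [one_zpow, one_mul, mul_one, inv_zpow']
      rw [← hc0, ← zpow_mul, ← zpow_mul, ← zpow_add]
      refine hone _ ?_
      convert h using 1; ring
    set D := α * t - β * u with hDdef
    set A := -(r * t - s * u) with hA
    set B := -(α * s - β * r) with hB
    have h1 : q ^ D * v ^ A * w ^ B ∈ center Q := by
      refine hzero _ ?_ ?_
      · rw [hbl, hbl, hzl, hzl, hzl, hrb, hαb, hub, ← zpow_mul, ← zpow_mul, ← zpow_mul, ← zpow_add, ← zpow_add]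
        exact hone _ ⟨0, by rw [hDdef, hA, hB]; ring⟩
      · rw [hbr, hbr, hzr, hzr, hzr, hra, hαa, hua, ← zpow_mul, ← zpow_mul, ← zpow_mul, ← zpow_add, ← zpow_add]
        exact hone _ ⟨0, by rw [hDdef, hA, hB]; ring⟩
    refine H30.mem_of_pow_mem (mem_sup_left (mem_sup_left (hppow q))) hD ?_
    have := mul_mem (mul_mem (mem_sup_left (mem_sup_left h1) : _ ∈ center Q ⊔ zpowers v ⊔ zpowers w)
      (mem_sup_right (zpow_mem (mem_zpowers w) (-B))))
      (mem_sup_left (mem_sup_right (zpow_mem (mem_zpowers v) (-A))))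
    rw [show q ^ D = q ^ D * v ^ A * w ^ B * w ^ (-B) * v ^ (-A) by group]
    exact this
  have hdec1 : ∀ v q : Q, q ∈ center Q ⊔ zpowers v → ∃ f ∈ center Q, ∃ k : ℤ, f * v ^ k = q := by
    intro v q hq
    exact (H30.mem_sup_zpowers (by
      rw [normalizer_eq_top_iff.2 (inferInstance : (center Q).Normal)]; trivial)).1 hq
  have hdec2 : ∀ v w q : Q, q ∈ center Q ⊔ zpowers v ⊔ zpowers w →
      ∃ f ∈ center Q, ∃ k l : ℤ, f * v ^ k * w ^ l = q := by
    intro v w q hq
    obtain ⟨g, hg, l, rfl⟩ := (H30.mem_sup_zpowers (by rw [normalizer_eq_top_iff.2 (hsub v)]; trivial)).1 hq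
    obtain ⟨f, hf, k, rfl⟩ := hdec1 v g hg
    exact ⟨f, hf, k, l, rfl⟩
  have hcenσ : ∀ (σ : MulAut Q), ∀ f ∈ center Q, σ f ∈ center Q := fun σ f hf => mem_center_iff.2 fun q => by
    obtain ⟨q', rfl⟩ := σ.surjective q
    rw [← map_mul, ← map_mul, mem_center_iff.1 hf q']
  have hcom0 : ∀ f ∈ center Q, ∀ q : Q, ⁅f, q⁆ = 1 := fun f hf q => (hcom f q).2 (mem_center_iff.1 hf q).symm
  have hcom0' : ∀ f ∈ center Q, ∀ q : Q, ⁅q, f⁆ = 1 := fun f hf q => (hcom q f).2 (mem_center_iff.1 hf q)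
  have hσc : ∀ σ : MulAut Q, ∃ l : ℤ, ¬ (p : ℤ) ∣ l ∧ (∀ q ∈ commutator Q, σ q = q ^ l) ∧
      ((v0 ^ l)⁻¹ * σ v0) ^ p ^ i = 1 := by
    intro σ
    have h1 : σ c ∈ zpowers c := by
      rw [← hder]
      have h2 : (commutator Q).map σ.toMonoidHom = commutator Q :=
        Subgroup.characteristic_iff_map_eq.1 inferInstance σ
      rw [← h2]; exact mem_map_of_mem _ (hder ▸ mem_zpowers c)
    obtain ⟨l, hl⟩ := mem_zpowers_iff.1 h1
    refine ⟨l, ?_, ?_, ?_⟩
    · rintro ⟨l', rfl⟩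
      rw [zpow_mul, zpow_natCast, ← hco, pow_orderOf_eq_one, one_zpow] at hl
      exact hc1 (σ.injective (by rw [← hl, map_one]))
    · intro q hq
      obtain ⟨k, rfl⟩ := mem_zpowers_iff.1 (hder ▸ hq)
      rw [map_zpow, ← hl, ← zpow_mul, ← zpow_mul, mul_comm]
    · rw [hmuli i h1i, inv_pow, ← map_pow, hv0, ← zpow_natCast, ← zpow_mul, mul_comm, zpow_mul, zpow_natCast,
        hv0, hl, inv_mul_cancel]
  by_cases hex : ∃ w : Q, w ^ p ^ i = 1 ∧ w ∉ center Q
  · obtain ⟨w, hw, hwZ⟩ := hex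
    have hK : ∀ r : Q, r ^ p ^ i = 1 → ⁅w, r⁆ = 1 := by
      intro r hr
      by_contra hne
      obtain ⟨f, hf, k, l, hkl⟩ := hdec2 _ _ _ (hspan w r v0 hne)
      obtain ⟨u, hu⟩ := hfpow f hf
      apply hmax u
      rw [← hv0, ← hkl, hmuli i h1i, hmuli i h1i, ← zpow_natCast (w ^ k), ← zpow_natCast (r ^ l), ← zpow_mul,
        ← zpow_mul, mul_comm k, mul_comm l, zpow_mul, zpow_mul, zpow_natCast, zpow_natCast, hw, hr, one_zpow,
        one_zpow, mul_one, mul_one, hu]
    have hne : ⁅v0, w⁆ ≠ 1 := by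
      intro h
      obtain ⟨f, hf, k, hk⟩ := hdec1 _ _ (hcent v0 w hv0Z h)
      by_cases hpk : (p : ℤ) ∣ k
      · obtain ⟨k', rfl⟩ := hpk
        apply hwZ
        rw [← hk, zpow_mul, zpow_natCast]
        exact mul_mem hf (zpow_mem (hppow v0) k')
      · obtain ⟨u, hu⟩ := hfpow f hf
        rw [← hk, hmuli i h1i, hu, ← zpow_natCast (v0 ^ k), ← zpow_mul, mul_comm k, zpow_mul, zpow_natCast, hv0,
          mul_eq_one_iff_eq_inv, ← zpow_neg] at hw
        exact hmax' (-k) (fun h' => hpk (dvd_neg.1 h')) u hw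
    refine ⟨center Q, w, hcZ, hwZ, hcenσ, fun σ => ?_⟩
    obtain ⟨l, hpl, hl, hr⟩ := hσc σ
    have hσw : ⁅w, σ w⁆ = 1 := hK _ (by rw [← map_pow, hw, map_one])
    obtain ⟨f, hf, k, hk⟩ := hdec1 _ _ (hcent w (σ w) hwZ hσw)
    set r := (v0 ^ l)⁻¹ * σ v0 with hrdef
    have hrw : ⁅r, w⁆ = 1 := (hcom r w).2 ((hcom w r).1 (hK r hr)).symm
    have h2 : ⁅v0, w⁆ ^ l = ⁅v0, w⁆ ^ (l * k) := by
      rw [← hl _ (hmem v0 w), map_commutatorElement, show σ v0 = v0 ^ l * r by rw [hrdef, mul_inv_cancel_left],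
        ← hk, hbl, hbr, hbr, hcom0' f hf, hcom0' f hf, one_mul, one_mul, hzl, hzr, hzr, hrw, one_zpow, mul_one,
        ← zpow_mul, mul_comm]
    have h3 : (p : ℤ) ∣ l * k - l := by
      have h4 : ⁅v0, w⁆ ^ (l * k - l) = 1 := by rw [zpow_sub, h2, mul_inv_cancel]
      rwa [← orderOf_dvd_iff_zpow_eq_one, orderOf_eq_prime (hcp _ (hmem v0 w)) hne] at h4
    have h5 : (p : ℤ) ∣ k - 1 := by
      rw [← mul_sub_one] at h3
      exact ((Nat.prime_iff_prime_int.1 hp.out).dvd_or_dvd h3).resolve_left hpl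
    obtain ⟨k', hk'⟩ := h5
    rw [← hk, mul_assoc, ← zpow_sub_one, hk', zpow_mul, zpow_natCast]
    exact mul_mem hf (zpow_mem (hppow w) k')
  · push Not at hex
    have hσv0 : ∀ σ : MulAut Q, σ v0 ∈ center Q ⊔ zpowers v0 := fun σ => by
      obtain ⟨l, -, -, hr⟩ := hσc σ
      have := mul_mem (mem_sup_right (zpow_mem (mem_zpowers v0) l) : v0 ^ l ∈ center Q ⊔ zpowers v0)
        (mem_sup_left (hex _ hr))
      rwa [mul_inv_cancel_left] at this
    obtain ⟨w, hw⟩ : ∃ w, w ∉ center Q ⊔ zpowers v0 := by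
      by_contra! hall
      haveI := H30.isMulCommutative_of_sup_zpowers_eq_top (le_refl (center Q)) (x := v0)
        (eq_top_iff.2 fun q _ => hall q)
      exact hv0Z (mem_center_iff.2 fun q => mul_comm' q v0)
    refine ⟨center Q ⊔ zpowers v0, w, hcZ.trans le_sup_left, hw, fun σ m hm => ?_, fun σ => ?_⟩
    · obtain ⟨f, hf, k, rfl⟩ := hdec1 _ _ hm
      rw [map_mul, map_zpow]
      exact mul_mem (mem_sup_left (hcenσ σ f hf)) (zpow_mem (hσv0 σ) k)
    have hne : ⁅v0, w⁆ ≠ 1 := fun h => hw (hcent v0 w hv0Z h)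
    obtain ⟨l, hpl, hl, hr⟩ := hσc σ
    obtain ⟨f, hf, j, k, hk⟩ := hdec2 _ _ _ (hspan v0 w (σ w) hne)
    set r := (v0 ^ l)⁻¹ * σ v0 with hrdef
    have hrZ : r ∈ center Q := hex r hr
    have h2 : ⁅v0, w⁆ ^ l = ⁅v0, w⁆ ^ (l * k) := by
      rw [← hl _ (hmem v0 w), map_commutatorElement, show σ v0 = v0 ^ l * r by rw [hrdef, mul_inv_cancel_left],
        ← hk, hbl, hcom0 r hrZ, mul_one, hbr, hbr, hcom0' f hf, one_mul, hzl v0 (v0 ^ j),
        hzr v0 v0, (hcom v0 v0).2 (Commute.refl v0), one_zpow, one_zpow, one_mul, hzl, hzr, ← zpow_mul, mul_comm]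
    have h3 : (p : ℤ) ∣ l * k - l := by
      have h4 : ⁅v0, w⁆ ^ (l * k - l) = 1 := by rw [zpow_sub, h2, mul_inv_cancel]
      rwa [← orderOf_dvd_iff_zpow_eq_one, orderOf_eq_prime (hcp _ (hmem v0 w)) hne] at h4
    have h5 : (p : ℤ) ∣ k - 1 := by
      rw [← mul_sub_one] at h3
      exact ((Nat.prime_iff_prime_int.1 hp.out).dvd_or_dvd h3).resolve_left hpl
    obtain ⟨k', hk'⟩ := h5
    rw [← hk, mul_assoc, ← zpow_sub_one, hk', zpow_mul w, zpow_natCast]
    exact mul_mem (mul_mem (mem_sup_left hf) (mem_sup_right (zpow_mem (mem_zpowers v0) j)))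
      (mem_sup_left (zpow_mem (hppow w) k'))

/-- A nonabelian metacyclic normal Sylow subgroup is not inside the derived group. -/
theorem not_metacyclic_normal {N : Type*} [Group N] [Finite N] (hp2 : p ≠ 2) (S : Sylow p N)
    [(S : Subgroup N).Normal] (hder : (S : Subgroup N) ≤ commutator N)
    (hna : ¬ IsMulCommutative ↥(S : Subgroup N)) (hm : Cfsg.IsMetacyclic ↥(S : Subgroup N)) : False := by
  set R : Subgroup N := ⁅(S : Subgroup N), (S : Subgroup N)⁆ with hR
  have hRmap : (commutator ↥(S : Subgroup N)).map (S : Subgroup N).subtype = R := Subgroup.map_subtype_commutator _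
  haveI hRn : R.Normal := by rw [hR]; infer_instance
  haveI : IsCyclic ↥(commutator ↥(S : Subgroup N)) := H30.isCyclic_commutator_of_isMetacyclic hm
  haveI hRc : IsCyclic ↥R := by
    rw [← hRmap]
    exact isCyclic_of_surjective ((S : Subgroup N).subtype.subgroupMap _)
      ((S : Subgroup N).subtype.subgroupMap_surjective _)
  obtain ⟨r, hr⟩ := R.isCyclic_iff_exists_zpowers_eq_top.1 hRc
  have hr1 : r ≠ 1 := by
    intro h
    refine hna ⟨⟨fun a b => Subtype.ext ?_⟩⟩
    have h1 : ⁅(a : N), (b : N)⁆ ∈ R := commutator_mem_commutator a.2 b.2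
    rw [← hr, h, zpowers_one_eq_bot, mem_bot, commutatorElement_eq_one_iff_mul_comm] at h1
    exact h1
  have hrS : r ∈ (S : Subgroup N) :=
    Subgroup.commutator_le_self _ (hr ▸ mem_zpowers r : r ∈ R)
  set K := zpowers (r ^ p) with hK
  haveI hKn : K.Normal := H30.normal_of_le_cyclic (A := R)
    (zpowers_le.2 (pow_mem (hr ▸ mem_zpowers r : r ∈ R) p))
  set f := QuotientGroup.mk' K with hf
  have hfs : Function.Surjective f := QuotientGroup.mk'_surjective K
  set S' : Sylow p (N ⧸ K) := S.mapSurjective hfs with hS'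
  have hS'c : (S' : Subgroup (N ⧸ K)) = (S : Subgroup N).map f := rfl
  haveI hS'n : (S' : Subgroup (N ⧸ K)).Normal := by
    rw [hS'c]; exact Normal.map inferInstance f hfs
  have hder' : (S' : Subgroup (N ⧸ K)) ≤ commutator (N ⧸ K) := by
    rw [hS'c, ← H6.map_commutator_quotient K]
    exact map_mono hder
  have hm' : Cfsg.IsMetacyclic ↥(S' : Subgroup (N ⧸ K)) :=
    H30.isMetacyclic_of_surjective (f.subgroupMap (S : Subgroup N)) (f.subgroupMap_surjective _) hm
  have hfr1 : f r ≠ 1 := by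
    intro h
    obtain ⟨i, hi⟩ := mem_zpowers_iff.1 ((QuotientGroup.eq_one_iff r).1 h)
    obtain ⟨k, hk⟩ := IsPGroup.iff_orderOf.1 S.2 ⟨r, hrS⟩
    rw [Subgroup.orderOf_mk] at hk
    have h1 : r ^ ((p : ℤ) * i - 1) = 1 := by
      rw [zpow_sub_one, zpow_mul, zpow_natCast, hi, mul_inv_cancel]
    rw [← orderOf_dvd_iff_zpow_eq_one, hk] at h1
    rcases k.eq_zero_or_pos with rfl | hk0
    · exact hr1 (orderOf_eq_one_iff.1 (by rw [hk, pow_zero]))
    have h2 : (p : ℤ) ∣ (p : ℤ) * i - 1 :=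
      (Int.natCast_dvd_natCast.2 (dvd_pow_self p hk0.ne')).trans h1
    have h3 : (p : ℤ) ∣ 1 := by
      have := dvd_sub (dvd_mul_right (p : ℤ) i) h2
      simpa using this
    exact hp.out.not_dvd_one (by exact_mod_cast h3)
  have hfrp : f r ^ p = 1 := by
    rw [← map_pow]; exact (QuotientGroup.eq_one_iff _).2 (mem_zpowers _)
  have hfrS : f r ∈ (S' : Subgroup (N ⧸ K)) := hS'c ▸ mem_map_of_mem f hrS
  set c : ↥(S' : Subgroup (N ⧸ K)) := ⟨f r, hfrS⟩ with hc
  have hco : orderOf c = p := by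
    rw [hc, Subgroup.orderOf_mk]; exact orderOf_eq_prime hfrp hfr1
  have hcd : commutator ↥(S' : Subgroup (N ⧸ K)) = zpowers c := by
    apply map_injective (S' : Subgroup (N ⧸ K)).subtype_injective
    have h3 : ⁅(S' : Subgroup (N ⧸ K)), (S' : Subgroup (N ⧸ K))⁆ = zpowers (f r) := by
      rw [hS'c, ← Subgroup.map_commutator, ← hR, ← hr, MonoidHom.map_zpowers]
    rw [Subgroup.map_subtype_commutator, MonoidHom.map_zpowers, h3]
    rfl
  obtain ⟨M, w, hMder, hwM, hMσ, hwσ⟩ := exists_fixed_coset hp2 S'.2 hm' hco hcd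
  set M' := M.map (S' : Subgroup (N ⧸ K)).subtype with hM'
  haveI hM'n : M'.Normal := by
    refine ⟨?_⟩
    rintro _ ⟨m, hm, rfl⟩ g
    exact ⟨MulAut.conjNormal g m, hMσ _ m hm, by simp⟩
  set π := QuotientGroup.mk' M' with hπ
  have hπs : Function.Surjective π := QuotientGroup.mk'_surjective M'
  set S'' := S'.mapSurjective hπs with hS''
  have hS''c : (S'' : Subgroup ((N ⧸ K) ⧸ M')) = (S' : Subgroup (N ⧸ K)).map π := rfl
  have hw1 : π (w : N ⧸ K) = 1 := by
    refine eq_one_of_abelian_sylow S'' ?_ ?_ ?_ ?_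
    · rw [hS''c]
      rintro _ ⟨a, ha, rfl⟩ _ ⟨b, hb, rfl⟩
      rw [← commutatorElement_eq_one_iff_commute, ← map_commutatorElement, hπ, QuotientGroup.mk'_apply,
        QuotientGroup.eq_one_iff]
      exact ⟨⁅(⟨a, ha⟩ : ↥(S' : Subgroup (N ⧸ K))), ⟨b, hb⟩⁆,
        hMder (by rw [_root_.commutator_def]; exact commutator_mem_commutator (mem_top _) (mem_top _)), rfl⟩
    · rw [hS''c]; exact mem_map_of_mem π w.2
    · rw [mem_center_iff]
      intro q
      obtain ⟨g, rfl⟩ := hπs q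
      have h1 : π (g * (w : N ⧸ K) * g⁻¹ * (w : N ⧸ K)⁻¹) = 1 :=
        (QuotientGroup.eq_one_iff _).2 ⟨MulAut.conjNormal g w * w⁻¹, hwσ _, by simp⟩
      rw [map_mul, map_mul, map_mul, map_inv, map_inv, mul_inv_eq_one, mul_inv_eq_iff_eq_mul] at h1
      exact h1
    · rw [← H6.map_commutator_quotient M']
      exact mem_map_of_mem π (hder' w.2)
  obtain ⟨m, hm1, hm2⟩ := (QuotientGroup.eq_one_iff _).1 hw1
  exact hwM (Subtype.ext hm2 ▸ hm1)

/-- A nonabelian metacyclic Sylow subgroup is not inside the derived group. -/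
theorem not_isMetacyclic {C : Type*} [Group C] [Finite C] (hp2 : p ≠ 2) (P : Sylow p C)
    (hder : (P : Subgroup C) ≤ commutator C) (hna : ¬ IsMulCommutative ↥(P : Subgroup C))
    (hm : Cfsg.IsMetacyclic ↥(P : Subgroup C)) : False := by
  have hY := H75.yoshida P (not_hasWreathImage hp2 hm)
  set N := normalizer ((P : Subgroup C) : Set C) with hN
  let S : Sylow p ↥N := P.subtype le_normalizer
  have hSc : (S : Subgroup ↥N) = (P : Subgroup C).subgroupOf N := rfl
  haveI : (S : Subgroup ↥N).Normal := by rw [hSc, hN]; exact normal_in_normalizer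
  have e : ↥(S : Subgroup ↥N) ≃* ↥(P : Subgroup C) := subgroupOfEquivOfLe le_normalizer
  refine not_metacyclic_normal hp2 S ?_ ?_ (H30.isMetacyclic_of_surjective e.symm.toMonoidHom e.symm.surjective hm)
  · intro a ha
    have h1 := hY ⟨ha, hder ha⟩
    obtain ⟨b, hb, hba⟩ := (Subgroup.map_subtype_commutator N).ge h1
    rwa [← Subtype.ext hba]
  · intro h
    exact hna ⟨⟨fun a b => e.symm.injective (by rw [map_mul, map_mul]; exact mul_comm' _ _)⟩⟩

/-- A product invariant under a permutation of order `p`, trivial at its fixed points. -/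
theorem prod_eq_one_of_perm {X : Type*} [Fintype X] {A : Type*} [CommGroup A] (σ : Equiv.Perm X)
    (hσ : σ ^ p = 1) (F : X → A) (hA : ∀ a : A, a ^ p = 1) (hinv : ∀ x, F (σ x) = F x)
    (hfix : ∀ x, σ x = x → F x = 1) : ∏ x, F x = 1 := by
  classical
  rw [Finset.prod_comp (fun a : A => a) F]
  refine Finset.prod_eq_one fun a _ => ?_
  by_cases ha : a = 1
  · rw [ha, one_pow]
  have hrestr : ∀ x, F (σ x) = a ↔ F x = a := fun x => by rw [hinv x]
  set τ : Equiv.Perm {x // F x = a} := σ.subtypePerm hrestr with hτ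
  have hτp : τ ^ p ^ 1 = 1 := by
    rw [pow_one, hτ, Equiv.Perm.subtypePerm_pow]
    refine Equiv.ext fun x => Subtype.ext ?_
    show (σ ^ p) x.1 = x.1
    rw [hσ]
    rfl
  have hmod := Equiv.Perm.card_compl_support_modEq (p := p) (n := 1) (σ := τ) hτp
  have h0 : τ.supportᶜ.card = 0 := by
    rw [Finset.card_eq_zero, Finset.eq_empty_iff_forall_notMem]
    intro x hx
    rw [Finset.mem_compl, Equiv.Perm.notMem_support] at hx
    exact ha (x.2.symm.trans (hfix x.1 (congrArg Subtype.val hx)))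
  rw [h0] at hmod
  obtain ⟨q, hq⟩ : p ∣ Fintype.card {x // F x = a} := Nat.modEq_zero_iff_dvd.1 hmod.symm
  rw [Fintype.card_subtype] at hq
  rw [hq, pow_mul, hA, one_pow]

/-- The transfer of `u` is `φ u ^ index` when the orbits fixed by a commuting element of order `p` give
no twist. -/
theorem transfer_eq_pow_of_twist {C : Type*} [Group C] [Finite C] {H : Subgroup C} {A : Type*} [CommGroup A]
    (hA : ∀ a : A, a ^ p = 1) (φ : ↥H →* A) (u : C) (hu : u ∈ H) (e : C) (hep : e ^ p = 1) (hue : Commute e u)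
    (key : ∀ (g : C) (k : ℕ) (l : ℤ) (hmem : g⁻¹ * u ^ k * g ∈ H),
      g⁻¹ * ((u ^ l)⁻¹ * e) * g ∈ H → (k : ℤ) ∣ l * p → φ ⟨_, hmem⟩ = φ ⟨u, hu⟩ ^ k) :
    MonoidHom.transfer φ u = φ ⟨u, hu⟩ ^ H.index := by
  classical
  letI : Fintype (Quotient (MulAction.orbitRel (zpowers u) (C ⧸ H))) := Fintype.ofFinite _
  rw [Subgroup.index_eq_sum_minimalPeriod H u, ← Finset.prod_pow_eq_pow_sum,
    MonoidHom.transfer_eq_prod_quotient_orbitRel_zpowers_quot]
  rw [← div_eq_one, ← Finset.prod_div_distrib]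
  let per : C ⧸ H → ℕ := fun q => Function.minimalPeriod (u • ·) q
  let F : C ⧸ H → A := fun q =>
    φ ⟨q.out⁻¹ * u ^ per q * q.out, QuotientGroup.out_conj_pow_minimalPeriod_mem H u q⟩ / φ ⟨u, hu⟩ ^ per q
  have hper : ∀ g : C, Commute g u → ∀ q : C ⧸ H, per (g • q) = per q := by
    intro g hg q
    have h1 : ∀ k : ℕ, u ^ k • (g • q) = g • q ↔ u ^ k • q = q := fun k => by
      rw [smul_smul, ← (hg.pow_right k).eq, ← smul_smul]
      exact (MulAction.injective g).eq_iff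
    refine Nat.dvd_antisymm ?_ ?_
    · rw [← MulAction.pow_smul_eq_iff_minimalPeriod_dvd, h1, MulAction.pow_smul_eq_iff_minimalPeriod_dvd]
    · rw [← MulAction.pow_smul_eq_iff_minimalPeriod_dvd, ← h1, MulAction.pow_smul_eq_iff_minimalPeriod_dvd]
  have hinv : ∀ g : C, Commute g u → ∀ q : C ⧸ H, F (g • q) = F q := by
    intro g hg q
    have hh : (g * q.out)⁻¹ * (g • q).out ∈ H := by
      rw [← QuotientGroup.eq, QuotientGroup.out_eq']
      conv_rhs => rw [← QuotientGroup.out_eq' q]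
      rfl
    set h := (g * q.out)⁻¹ * (g • q).out with hdef
    have hout : (g • q).out = g * q.out * h := by rw [hdef, mul_inv_cancel_left]
    simp only [F, hper g hg q]
    congr 1
    have hval : (g • q).out⁻¹ * u ^ per q * (g • q).out = h⁻¹ * (q.out⁻¹ * u ^ per q * q.out) * h := by
      rw [hout]
      calc (g * q.out * h)⁻¹ * u ^ per q * (g * q.out * h)
          = h⁻¹ * (q.out⁻¹ * (g⁻¹ * (u ^ per q * g)) * q.out) * h := by group
        _ = _ := by rw [← (hg.pow_right _).eq, inv_mul_cancel_left]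
    have h2 : (⟨_, hval ▸ mul_mem (mul_mem (inv_mem hh) (QuotientGroup.out_conj_pow_minimalPeriod_mem H u q)) hh⟩ : ↥H)
        = (⟨h, hh⟩ : ↥H)⁻¹ * ⟨q.out⁻¹ * u ^ per q * q.out, QuotientGroup.out_conj_pow_minimalPeriod_mem H u q⟩
          * ⟨h, hh⟩ := Subtype.ext hval
    rw [h2, map_mul, map_mul, map_inv, mul_comm (φ ⟨h, hh⟩)⁻¹, inv_mul_cancel_right]
  let τ : (g : C) → Commute g u → Quotient (MulAction.orbitRel (zpowers u) (C ⧸ H)) →
      Quotient (MulAction.orbitRel (zpowers u) (C ⧸ H)) := fun g hg =>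
    Quotient.map (g • ·) (fun a b hab => by
      obtain ⟨⟨z, i, rfl⟩, hz⟩ := MulAction.orbitRel_apply.1 hab
      refine MulAction.orbitRel_apply.2 ⟨⟨u ^ i, i, rfl⟩, ?_⟩
      show u ^ i • (g • b) = g • a
      rw [smul_smul, ← (hg.zpow_right i).eq, ← smul_smul]
      exact congrArg (g • ·) hz)
  let σ : Equiv.Perm (Quotient (MulAction.orbitRel (zpowers u) (C ⧸ H))) :=
    { toFun := τ e hue
      invFun := τ e⁻¹ hue.inv_left
      left_inv := fun q => by
        induction q using Quotient.inductionOn with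
        | h a => exact congrArg (Quotient.mk _) (inv_smul_smul e a)
      right_inv := fun q => by
        induction q using Quotient.inductionOn with
        | h a => exact congrArg (Quotient.mk _) (smul_inv_smul e a) }
  have hσmk : ∀ a, σ (Quotient.mk _ a) = Quotient.mk _ (e • a) := fun a => rfl
  have hσpow : ∀ (j : ℕ) (a : C ⧸ H), (σ ^ j) (Quotient.mk _ a) = Quotient.mk _ (e ^ j • a) := by
    intro j
    induction j with
    | zero => intro a; simp
    | succ j ih => intro a; rw [pow_succ', Equiv.Perm.mul_apply, ih, hσmk, smul_smul, ← pow_succ']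
  refine prod_eq_one_of_perm σ ?_ (fun q => F q.out) hA ?_ ?_
  · refine Equiv.ext fun q => ?_
    induction q using Quotient.inductionOn with
    | h a => rw [hσpow, hep, one_smul]; rfl
  · intro q
    obtain ⟨⟨z, i, rfl⟩, hz⟩ := MulAction.orbitRel_apply.1 (Quotient.exact
      ((Quotient.out_eq (σ q)).trans (by conv_lhs => rw [← Quotient.out_eq q, hσmk]) :
        Quotient.mk _ (σ q).out = Quotient.mk _ (e • q.out)))
    show F (σ q).out = F q.out
    rw [← hz]
    show F (u ^ i • (e • q.out)) = F q.out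
    rw [hinv _ ((Commute.refl u).zpow_left i), hinv e hue]
  · intro q hq
    set a := q.out with ha
    have h1 : Quotient.mk (MulAction.orbitRel (zpowers u) (C ⧸ H)) (e • a) = Quotient.mk _ a := by
      rw [← hσmk, ha, Quotient.out_eq, hq]
    obtain ⟨⟨z, l, rfl⟩, hz⟩ := MulAction.orbitRel_apply.1 (Quotient.exact h1)
    have hz' : u ^ l • a = e • a := hz
    have h2 : ((u ^ l)⁻¹ * e) • a = a := by rw [mul_smul, ← hz', inv_smul_smul]
    have h3 : a.out⁻¹ * ((u ^ l)⁻¹ * e) * a.out ∈ H := by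
      rw [mul_assoc, ← QuotientGroup.eq, QuotientGroup.out_eq']
      conv_lhs => rw [← h2, ← QuotientGroup.out_eq' a]
      rfl
    have h4 : (per a : ℤ) ∣ l * p := by
      rw [← dvd_neg, show -(l * (p : ℤ)) = -l * p by ring]
      rw [← MulAction.zpow_smul_eq_iff_minimalPeriod_dvd, zpow_mul, zpow_natCast, zpow_neg]
      have h5 : ((u ^ l)⁻¹ * e) ^ p • a = a :=
        MulAction.mem_stabilizer_iff.1 (pow_mem (MulAction.mem_stabilizer_iff.2 h2) p)
      rwa [((hue.zpow_right l).inv_right.symm).mul_pow, hep, mul_one] at h5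
    show F a = 1
    simp only [F]
    rw [key a.out (per a) l _ h3 h4, div_self']

/-- Groups of maximal class and even logarithmic order do not occur. -/
theorem false_of_maxClass_even {C : Type u} [Group C] [Finite C] (hp2 : p ≠ 2) (hrk : Cfsg.PRankLE p 2 C)
    (P : Sylow p C) (hder : (P : Subgroup C) ≤ commutator C) {x : ↥(P : Subgroup C)} (hx : (x : C) ∈ center C)
    (hxo : orderOf x = p) (hnm : ¬ Cfsg.IsMetacyclic ↥(P : Subgroup C)) {j : ℕ}
    (hn : Nat.card ↥(P : Subgroup C) = p ^ (2 * (j + 2)))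
    (hcl : Group.nilpotencyClass ↥(P : Subgroup C) = 2 * (j + 2) - 1) : False := by
  classical
  have hQ : IsPGroup p ↥(P : Subgroup C) := P.2
  have hrkQ : Cfsg.PRankLE p 2 ↥(P : Subgroup C) :=
    prank_of_injective _ (P : Subgroup C).subtype_injective hrk
  have hxc : x ∈ center ↥(P : Subgroup C) := mem_center_iff.2 fun q => Subtype.ext (mem_center_iff.1 hx q)
  obtain ⟨hZp, -, -⟩ := H6.maximalClass_center (by omega) hn hcl
  have hZ : center ↥(P : Subgroup C) = zpowers x :=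
    (eq_of_le_of_card_ge (zpowers_le.2 hxc) (by rw [hZp, Nat.card_zpowers, hxo])).symm
  have hZcen : ∀ q ∈ center ↥(P : Subgroup C), (q : C) ∈ center C := by
    intro q hq
    obtain ⟨i, rfl⟩ := mem_zpowers_iff.1 (hZ ▸ hq)
    rw [SubgroupClass.coe_zpow]; exact zpow_mem hx i
  have hnc : ¬ IsCyclic ↥(P : Subgroup C) := fun h => hnm (H30.metaPow_of_isCyclic hQ h).1
  obtain ⟨E, hEn, hE, hEcard⟩ := H6.exists_normal_elementary_sq hp2 hQ hnc
  haveI := hEn
  have hEab : ∀ a ∈ E, ∀ b ∈ E, Commute a b := fun a ha b hb =>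
    congrArg Subtype.val (hE.1.is_comm.comm ⟨a, ha⟩ ⟨b, hb⟩)
  have d : H30.OmData p E := ⟨hp2, hQ, hEn, hEcard.le, H30.le_centralizer_self_of_isMulCommutative hE.1,
    hE.2, fun g hg hgp => mem_of_rank hrkQ hEab hE.2 hEcard.ge
      (fun a ha => (mem_centralizer_iff.1 hg a ha).symm) hgp⟩
  haveI := d.cen_normal
  have hns : ¬ H30.OmSplit p E := fun h =>
    hnm (H30.metaPow_of_split _ _ le_rfl E d h).1
  simp only [H30.OmSplit, not_forall] at hns
  obtain ⟨s, hsE, hsA⟩ := hns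
  set A := centralizer (E : Set ↥(P : Subgroup C)) with hA
  have hEc : ¬ E ≤ center ↥(P : Subgroup C) := fun h => hsA (by
    rw [hA, centralizer_eq_top_iff_subset.2 h]; trivial)
  obtain ⟨hidx, -⟩ := d.sup_zpowers_eq_top hEcard hsA
  have hAcard : Nat.card A = p ^ (2 * (j + 1) + 1) := by
    have h := A.card_mul_index
    rw [hidx, hn, show 2 * (j + 2) = 2 * (j + 1) + 1 + 1 by ring, pow_succ p (2 * (j + 1) + 1)] at h
    exact Nat.eq_of_mul_eq_mul_right hp.out.pos h
  have hxE : x ∈ E := by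
    obtain ⟨-, hEZ⟩ := d.card_eq_of_not_le_center hEc
    have h : E ⊓ center ↥(P : Subgroup C) = center ↥(P : Subgroup C) :=
      eq_of_le_of_card_ge inf_le_right (by rw [hEZ, hZp])
    exact (h.ge hxc).1
  have hWc : ∀ y : ↥(P : Subgroup C), y ∉ A → y ^ p = 1 → ∀ q ∈ A, Commute q y → q ∈ E := fun y hy hyp q hq hqy =>
    inf_centralizer_le d hxE hZ hy hyp hq hqy
  haveI : Nontrivial A := Finite.one_lt_card_iff_nontrivial.1 (by
    rw [hAcard]; exact Nat.one_lt_pow (by omega) hp.out.one_lt)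
  obtain ⟨m, c1, hc1o, hkill, hhom, him, u', hu'⟩ := exists_top_pow hp2 _ A le_rfl (hQ.to_subgroup A)
    (fun a ha => mem_center_iff.2 fun b => Subtype.ext
      (mem_centralizer_iff.1 b.2 _ (d.mem_of_pow a a.2 (by rw [← SubgroupClass.coe_pow, ha]; rfl))).symm)
    inferInstance (Or.inr ⟨by
      refine le_trans (Nat.card_le_card_of_injective (fun a => (⟨((a.1 : A) : ↥(P : Subgroup C)),
        d.mem_of_pow _ a.1.2 (by rw [← SubgroupClass.coe_pow, a.2]; rfl)⟩ : E))
        (fun a b h => Subtype.ext (Subtype.ext (congrArg (fun t : E => (t : ↥(P : Subgroup C))) h)))) hEcard.le,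
      j + 1, hAcard⟩)
  set N := p ^ m with hN
  set u : ↥(P : Subgroup C) := (u' : ↥(P : Subgroup C)) with hu
  have huA : u ∈ A := u'.2
  have hhom' : ∀ a ∈ A, ∀ b ∈ A, (a * b) ^ N = a ^ N * b ^ N := fun a ha b hb => by
    simpa using congrArg Subtype.val (hhom ⟨a, ha⟩ ⟨b, hb⟩)
  have hm0 : m ≠ 0 := by
    rintro rfl
    have hle : A ≤ E := fun a ha => d.mem_of_pow a ha (by
      simpa using congrArg Subtype.val (hkill ⟨a, ha⟩))
    have h := card_le_of_le hle
    rw [hAcard, hEcard] at h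
    have := (Nat.pow_le_pow_iff_right hp.out.one_lt).1 h
    omega
  have hc1u : (c1 : ↥(P : Subgroup C)) = u ^ N := by
    rw [← hu', SubgroupClass.coe_pow]
  have huN : u ^ N ∈ center ↥(P : Subgroup C) := by
    rw [← hc1u]
    refine H30.le_center_of_card_le hQ (C := zpowers (c1 : ↥(P : Subgroup C))) ⟨fun a ha g => ?_⟩
      (by rw [Nat.card_zpowers, Subgroup.orderOf_coe, hc1o]) (mem_zpowers _)
    obtain ⟨i, rfl⟩ := mem_zpowers_iff.1 ha
    rw [← conj_zpow]
    refine zpow_mem ?_ i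
    obtain ⟨l, hl⟩ := mem_zpowers_iff.1 (him ⟨g * u * g⁻¹, d.cen_normal.conj_mem u huA g⟩)
    have h1 := congrArg Subtype.val hl
    simp only [SubgroupClass.coe_zpow, SubgroupClass.coe_pow] at h1
    rw [hc1u, ← conj_pow, ← h1, hc1u]
    exact zpow_mem (mem_zpowers _) l
  have huN1 : u ^ N ≠ 1 := by
    rw [← hc1u, Ne, OneMemClass.coe_eq_one]
    intro h; rw [h, orderOf_one] at hc1o; exact hp.out.one_lt.ne hc1o
  have hupow : u ^ p ^ (m + 1) = 1 := by simpa using congrArg Subtype.val (hkill u')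
  have huo : orderOf u = p ^ (m + 1) := orderOf_eq_prime_pow huN1 hupow
  let K : Subgroup ↥(P : Subgroup C) :=
    { carrier := {a | a ∈ A ∧ a ^ N = 1}
      one_mem' := ⟨one_mem _, one_pow N⟩
      mul_mem' := fun {a b} ha hb => ⟨mul_mem ha.1 hb.1, by rw [hhom' a ha.1 b hb.1, ha.2, hb.2, one_mul]⟩
      inv_mem' := fun {a} ha => ⟨inv_mem ha.1, by rw [inv_pow, ha.2, inv_one]⟩ }
  haveI hKn : K.Normal := ⟨fun a ha g => ⟨d.cen_normal.conj_mem a ha.1 g, by
    rw [conj_pow, ha.2, mul_one, mul_inv_cancel]⟩⟩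
  have hEK : E ≤ K := fun a ha => ⟨d.le_cen ha, by
    obtain ⟨k, hk⟩ := Nat.exists_eq_succ_of_ne_zero hm0
    rw [hN, hk, pow_succ', pow_mul, hE.2 a ha, one_pow]⟩
  have huK : u ∉ K ⊔ zpowers s := by
    intro h
    obtain ⟨k, hk, i, hki⟩ := (H30.mem_sup_zpowers (by rw [normalizer_eq_top_iff.2 hKn]; trivial)).1 h
    have hsi : s ^ i ∈ A := by
      have := mul_mem (inv_mem hk.1) huA
      rwa [← hki, inv_mul_cancel_left] at this
    by_cases hpi : (p : ℤ) ∣ i
    · obtain ⟨l, rfl⟩ := hpi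
      rw [zpow_mul, zpow_natCast] at hki
      have : u ∈ K := hki ▸ mul_mem hk (zpow_mem (hEK hsE) l)
      exact huN1 this.2
    · exact hsA (H30.mem_of_pow_mem (d.le_cen hsE) hpi hsi)
  obtain ⟨M, hM, hMle⟩ := (eq_top_or_exists_le_coatom (K ⊔ zpowers s)).resolve_left
    fun h => huK (h.symm ▸ mem_top u)
  haveI hMn : M.Normal := H6.normal_of_isCoatom hQ hM
  have huM : u ∉ M := by
    intro h
    apply hM.1
    have htop := (d.sup_zpowers_eq_top hEcard hsA).2
    rw [eq_top_iff, ← htop, sup_le_iff, zpowers_le]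
    refine ⟨fun a ha => ?_, hMle (mem_sup_right (mem_zpowers s))⟩
    obtain ⟨i, hi⟩ := mem_zpowers_iff.1 (him ⟨a, ha⟩)
    have h1 := congrArg Subtype.val hi
    simp only [SubgroupClass.coe_zpow, SubgroupClass.coe_pow, hc1u] at h1
    have hK' : a * (u ^ i)⁻¹ ∈ K := ⟨mul_mem ha (inv_mem (zpow_mem huA i)), by
      rw [hhom' a ha _ (inv_mem (zpow_mem huA i)), inv_pow, ← zpow_natCast (u ^ i), ← zpow_mul, mul_comm,
        zpow_mul, zpow_natCast, h1, mul_inv_cancel]⟩
    have := mul_mem (hMle (mem_sup_left hK') : a * (u ^ i)⁻¹ ∈ M) (zpow_mem h i)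
    rwa [inv_mul_cancel_right] at this
  have hMi : M.index = p := H6.index_eq_prime_of_isCoatom hQ hM
  have hQc : Nat.card (↥(P : Subgroup C) ⧸ M) = p := by rw [← Subgroup.index_eq_card]; exact hMi
  haveI : IsCyclic (↥(P : Subgroup C) ⧸ M) := isCyclic_of_prime_card (p := p) hQc
  letI : CommGroup (↥(P : Subgroup C) ⧸ M) := IsCyclic.commGroup
  have hexpQ : ∀ a : ↥(P : Subgroup C) ⧸ M, a ^ p = 1 := fun a => by
    have := pow_card_eq_one' (G := ↥(P : Subgroup C) ⧸ M) (x := a)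
    rwa [hQc] at this
  set φ : ↥(P : Subgroup C) →* (↥(P : Subgroup C) ⧸ M) := QuotientGroup.mk' M with hφ
  have hψ : ∀ a ∈ A, ∀ b ∈ A, a ^ N = b ^ N → φ a = φ b := by
    intro a ha b hb h
    rw [hφ, QuotientGroup.mk'_apply, QuotientGroup.mk'_apply, QuotientGroup.eq]
    exact hMle (mem_sup_left (show a⁻¹ * b ∈ K from ⟨mul_mem (inv_mem ha) hb, by
      rw [hhom' _ (inv_mem ha) _ hb, inv_pow, h, inv_mul_cancel]⟩))
  obtain ⟨e, he, hec⟩ : ∃ e ∈ E, e ∉ center ↥(P : Subgroup C) := SetLike.not_le_iff_exists.1 hEc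
  have heu : Commute (e : C) (u : C) := congrArg Subtype.val (mem_centralizer_iff.1 huA e he)
  have hep : (e : C) ^ p = 1 := by rw [← SubgroupClass.coe_pow, hE.2 e he]; rfl
  have htr := transfer_eq_pow_of_twist hexpQ φ (u : C) u.2 (e : C) hep heu ?_
  · rw [(Abelianization.commutator_subset_ker (MonoidHom.transfer φ) (hder u.2) :
      MonoidHom.transfer φ (u : C) = 1)] at htr
    have h1 : φ u = 1 := by
      rw [← orderOf_eq_one_iff]
      exact Nat.eq_one_of_dvd_coprimes ((Nat.Prime.coprime_iff_not_dvd hp.out).2 P.not_dvd_index)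
        (orderOf_dvd_of_pow_eq_one (hexpQ (φ u))) (orderOf_dvd_of_pow_eq_one htr.symm)
    exact huM ((QuotientGroup.eq_one_iff u).1 h1)
  intro g k l hmem hy hkl
  set w : ↥(P : Subgroup C) := ⟨_, hmem⟩ with hw
  set y : ↥(P : Subgroup C) := ⟨_, hy⟩ with hydef
  have hgconj : ∀ (a : C) (i : ℤ), (g⁻¹ * a * g) ^ i = g⁻¹ * a ^ i * g := fun a i => by
    simpa using (conj_zpow (a := g⁻¹) (b := a) (i := i))
  have hgpow : ∀ (a : C) (i : ℕ), (g⁻¹ * a * g) ^ i = g⁻¹ * a ^ i * g := fun a i => by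
    simpa using (conj_pow (a := g⁻¹) (b := a) (i := i))
  have hgfix : ∀ z ∈ center C, g⁻¹ * z * g = z := fun z hz => by
    rw [mul_assoc, ← mem_center_iff.1 hz g, inv_mul_cancel_left]
  have hwA : w ∈ A := by
    by_contra hwA
    by_cases hdiv : (k : ℤ) ∣ l
    · obtain ⟨i, rfl⟩ := hdiv
      set e' := w ^ i * y with he'
      have he'c : (e' : C) = g⁻¹ * (e : C) * g := by
        rw [he', Subgroup.coe_mul, SubgroupClass.coe_zpow, hw, hydef]
        simp only
        rw [hgconj, ← zpow_natCast (u : C), ← zpow_mul]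
        group
      have he'p : e' ^ p = 1 := Subtype.ext (by
        rw [SubgroupClass.coe_pow, he'c, hgpow, hep, mul_one, inv_mul_cancel]; rfl)
      have he'w : Commute w e' := Subtype.ext (by
        show g⁻¹ * (u : C) ^ k * g * (e' : C) = (e' : C) * (g⁻¹ * (u : C) ^ k * g)
        rw [he'c]
        calc g⁻¹ * (u : C) ^ k * g * (g⁻¹ * (e : C) * g) = g⁻¹ * ((u : C) ^ k * (e : C)) * g := by group
          _ = g⁻¹ * ((e : C) * (u : C) ^ k) * g := by rw [(heu.pow_right k).eq]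
          _ = _ := by group)
      by_cases he'A : e' ∈ A
      · apply hec
        have h1 := d.fixed_mem hwA (d.mem_of_pow e' he'A he'p) he'w
        have h2 := hZcen e' h1
        have h3 : (e : C) = (e' : C) := by
          have h4 : g * (e' : C) * g⁻¹ = (e' : C) := by rw [mem_center_iff.1 h2 g, mul_inv_cancel_right]
          rw [← h4, he'c]; group
        exact (Subtype.ext h3 : e = e') ▸ h1
      · obtain ⟨a, ha, i', hai⟩ := (H30.mem_sup_zpowers (by rw [normalizer_eq_top_iff.2 d.cen_normal]; trivial)).1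
          ((d.sup_zpowers_eq_top hEcard he'A).2.symm ▸ mem_top w : w ∈ A ⊔ zpowers e')
        have hae : Commute a e' := by
          have h1 : a = w * (e' ^ i')⁻¹ := by rw [← hai, mul_inv_cancel_right]
          rw [h1]
          exact he'w.mul_left ((Commute.refl e').zpow_left i').inv_left
        have haE := hWc e' he'A he'p a ha hae
        have hwp : w ^ p = 1 := by
          rw [← hai, (hae.zpow_right i').mul_pow, hE.2 a haE, one_mul, ← zpow_natCast, ← zpow_mul, mul_comm,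
            zpow_mul, zpow_natCast, he'p, one_zpow]
        have hup : u ^ (k * p) = 1 := Subtype.ext (by
          rw [SubgroupClass.coe_pow, pow_mul]
          have h1 := congrArg Subtype.val hwp
          rw [SubgroupClass.coe_pow, hw] at h1
          simp only [OneMemClass.coe_one] at h1 ⊢
          rw [hgpow, mul_assoc, inv_mul_eq_one] at h1
          exact (right_eq_mul.1 h1))
        rw [← orderOf_dvd_iff_pow_eq_one, huo, pow_succ] at hup
        obtain ⟨k', rfl⟩ := Nat.dvd_of_mul_dvd_mul_right hp.out.pos hup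
        apply hwA
        have h1 : u ^ (p ^ m * k') ∈ center ↥(P : Subgroup C) := by rw [pow_mul]; exact pow_mem huN k'
        have h2 : w = u ^ (p ^ m * k') := Subtype.ext (by
          rw [hw, SubgroupClass.coe_pow]
          have := hgfix _ (hZcen _ h1)
          rwa [SubgroupClass.coe_pow] at this)
        rw [h2]; exact pow_mem huA _
    · obtain ⟨l', hl'⟩ := hkl
      have hpl : ¬ (p : ℤ) ∣ l' := by
        rintro ⟨t, rfl⟩
        apply hdiv
        refine ⟨t, mul_right_cancel₀ (b := (p : ℤ)) (by exact_mod_cast hp.out.ne_zero) ?_⟩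
        rw [hl']; ring
      have hyp : y ^ p = w ^ (-l') := Subtype.ext (by
        rw [SubgroupClass.coe_pow, SubgroupClass.coe_zpow, hw, hydef]
        simp only
        rw [hgpow, hgconj, ((heu.zpow_right l).inv_right.symm).mul_pow, hep, mul_one, inv_pow,
          ← zpow_natCast ((u : C) ^ l), ← zpow_mul, hl', ← zpow_neg, ← zpow_natCast (u : C) k, ← zpow_mul,
          mul_neg])
      have hAp : ∀ q : ↥(P : Subgroup C), q ^ p ∈ A := fun q => by
        have := pow_index_mem A q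
        rwa [hidx] at this
      refine hwA (H30.mem_of_pow_mem (j := -l') (hAp w) (fun h => hpl (dvd_neg.1 h)) ?_)
      rw [← hyp]
      exact hAp y
  rw [← map_pow]
  refine hψ w hwA (u ^ k) (pow_mem huA k) (Subtype.ext ?_)
  rw [SubgroupClass.coe_pow, SubgroupClass.coe_pow, hw, SubgroupClass.coe_pow]
  simp only
  rw [hgpow, ← pow_mul, mul_comm, pow_mul]
  have h1 : (u ^ N) ^ k ∈ center ↥(P : Subgroup C) := pow_mem huN k
  have h2 := hgfix _ (hZcen _ h1)
  rwa [SubgroupClass.coe_pow, SubgroupClass.coe_pow] at h2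

/-- The Sylow subgroup in the derived group of the centralizer of a central element of order `p`. -/
theorem sylow_structure {C : Type u} [Group C] [Finite C] (hp2 : p ≠ 2) (hrk : Cfsg.PRankLE p 2 C)
    (P : Sylow p C) (hder : (P : Subgroup C) ≤ commutator C) (x : ↥(P : Subgroup C)) (hx : (x : C) ∈ center C)
    (hxo : orderOf x = p) :
    (Cfsg.IsExtraspecial p ↥(P : Subgroup C) ∧ Nat.card ↥(P : Subgroup C) = p ^ 3 ∧
        ∀ y : ↥(P : Subgroup C), y ^ p = 1) ∨
      (p = 3 ∧ ∃ k : ℕ, 2 ≤ k ∧ Nat.card ↥(P : Subgroup C) = 3 ^ (2 * k + 1) ∧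
        Group.nilpotencyClass ↥(P : Subgroup C) = 2 * k) := by
  classical
  have hQ : IsPGroup p ↥(P : Subgroup C) := P.2
  have hna : ¬ IsMulCommutative ↥(P : Subgroup C) := by
    intro h
    have h1 := eq_one_of_abelian_sylow P (fun a ha b hb => congrArg Subtype.val
      (h.is_comm.comm ⟨a, ha⟩ ⟨b, hb⟩)) x.2 hx (hder x.2)
    rw [OneMemClass.coe_eq_one] at h1
    rw [h1, orderOf_one] at hxo
    exact hp.out.one_lt.ne hxo
  have hnm : ¬ Cfsg.IsMetacyclic ↥(P : Subgroup C) := fun h => not_isMetacyclic hp2 P hder hna h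
  have hrkQ : Cfsg.PRankLE p 2 ↥(P : Subgroup C) :=
    prank_of_injective _ (P : Subgroup C).subtype_injective hrk
  have hxc : x ∈ center ↥(P : Subgroup C) := mem_center_iff.2 fun q => Subtype.ext (mem_center_iff.1 hx q)
  obtain ⟨n, hn⟩ := IsPGroup.iff_card.1 hQ
  have hkill : ∀ N : ℕ, (∀ a b : ↥(P : Subgroup C), (a * b) ^ N = a ^ N * b ^ N) →
      (∀ v : ↥(P : Subgroup C), v ^ N ∈ zpowers x) → (∃ v : ↥(P : Subgroup C), v ^ N ≠ 1) → False := by
    rintro N hmul him ⟨v, hv⟩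
    apply hv
    refine Subtype.ext ?_
    rw [SubgroupClass.coe_pow]
    refine pow_eq_one_of_hom P hder (fun a ha b hb => ?_) (fun a ha => ?_) v.2
    · simpa using congrArg Subtype.val (hmul ⟨a, ha⟩ ⟨b, hb⟩)
    · obtain ⟨i, hi⟩ := mem_zpowers_iff.1 (him ⟨a, ha⟩)
      have h1 := congrArg Subtype.val hi
      simp only [SubgroupClass.coe_zpow, SubgroupClass.coe_pow] at h1
      rw [← h1]
      exact zpow_mem hx i
  -- maximal class for `p = 3`
  have hmax : p = 3 → 2 ≤ n → (⊤ : Subgroup ↥(P : Subgroup C)).lowerCentralSeries (n - 2) ≠ ⊥ →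
      (Cfsg.IsExtraspecial p ↥(P : Subgroup C) ∧ Nat.card ↥(P : Subgroup C) = p ^ 3 ∧
        ∀ y : ↥(P : Subgroup C), y ^ p = 1) ∨
      (p = 3 ∧ ∃ k : ℕ, 2 ≤ k ∧ Nat.card ↥(P : Subgroup C) = 3 ^ (2 * k + 1) ∧
        Group.nilpotencyClass ↥(P : Subgroup C) = 2 * k) := by
    intro hp3 h2 hlcs
    haveI := hQ.isNilpotent
    have hcl : Group.nilpotencyClass ↥(P : Subgroup C) = n - 1 := by
      have h1 := H6.nilpotencyClass_le_pred n _ hn h2
      have h3 : ¬ Group.nilpotencyClass ↥(P : Subgroup C) ≤ n - 2 := fun h =>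
        hlcs (Subgroup.lowerCentralSeries_eq_bot_iff_nilpotencyClass_le.2 h)
      omega
    have hn2 : n ≠ 2 := by
      rintro rfl
      exact hna (IsPGroup.isMulCommutative_of_card_eq_prime_sq hn)
    by_cases hn3 : n = 3
    · subst hn3
      exact Or.inl ⟨extraspecial_of_cube hn hna (exponent_of_cube hn hna hnm), hn, exponent_of_cube hn hna hnm⟩
    rcases n.even_or_odd' with ⟨k, hk | hk⟩
    · exfalso
      obtain ⟨j, rfl⟩ : ∃ j, k = j + 2 := ⟨k - 2, by omega⟩
      subst hk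
      exact false_of_maxClass_even hp2 hrk P hder hx hxo hnm hn hcl
    · refine Or.inr ⟨hp3, k, by omega, ?_, by omega⟩
      rw [← hk, hn, hp3]
  rcases H30.rank_two_classification hp2 n hn hrkQ with h | ⟨h3, a, b, c, hgen, ha, hb, hc, hac, hbc, hab⟩ |
      ⟨h4, s, a, b, c, hs, hgen, ha, hb, hc, hbc, hab, hac⟩ | ⟨hp3, h2, hlcs⟩
  · exact absurd h hnm
  · obtain ⟨hexp, hpow⟩ := familyC_pow hp2 hna hrkQ hxc hxo hgen ha hb hc h3 hac hbc hab
    by_cases hn3 : n = 3
    · subst hn3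
      exact Or.inl ⟨extraspecial_of_cube hn hna (hexp rfl), hn, hexp rfl⟩
    · obtain ⟨hmul, him, hne⟩ := hpow (by omega)
      exact absurd (hkill _ hmul him hne) id
  · rcases familyG_pow hp2 hrkQ hxc hxo hn h4 hs hgen ha hb hc hbc hab hac with ⟨hmul, him, hne⟩ | ⟨hp3, hlcs⟩
    · exact absurd (hkill _ hmul him hne) id
    · exact hmax hp3 (by omega) hlcs
  · exact hmax hp3 h2 hlcs

end H81.Iso
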