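import Cfsg.Agent.H81.IsoTransfer
import Cfsg.Agent.H30.Extraspecial
import Cfsg.Agent.H77.Isolated
import Cfsg.Agent.H5.Fusion

/-!
Sylow subgroups of a normal nonabelian simple subgroup in the presence of an isolated element of order `p`
in `p`-rank two.
-/

set_option autoImplicit false
set_option linter.all false

namespace H81.Iso

open Subgroup
open scoped commutatorElement

universe u

variable {p : ℕ} [hp : Fact p.Prime]

/-- In a perfect group, a Sylow subgroup containing the isolated element `x` is inside the derived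
group of `C(x)`. -/
theorem le_commutator_centralizer {L : Type*} [Group L] [Finite L] (htop : commutator L = ⊤) (P : Sylow p L)
    {x : L} (hxP : x ∈ (P : Subgroup L)) (hxo : orderOf x = p) (hiso : Cfsg.IsIsolated x)
    (hPC : (P : Subgroup L) ≤ centralizer ({x} : Set L)) :
    ((P.subtype hPC : Sylow p ↥(centralizer ({x} : Set L))) : Subgroup ↥(centralizer ({x} : Set L))) ≤
      commutator ↥(centralizer ({x} : Set L)) := by
  have hfoc : (P : Subgroup L) ≤ (P : Subgroup L).focalSubgroup := by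
    rw [← Subgroup.commutator_inf_eq_focalSubgroup P, htop, top_inf_eq]
  have hctl : ∀ a ∈ (P : Subgroup L), ∀ g : L, g * a * g⁻¹ ∈ (P : Subgroup L) →
      ∃ k ∈ centralizer ({x} : Set L), k * a * k⁻¹ = g * a * g⁻¹ := by
    intro a ha g hga
    have hxb : Commute x (g * a * g⁻¹) := H77.isolated_commute P.2 hxP hiso hga
    have hgx : Commute (g * x * g⁻¹) (g * a * g⁻¹) := by
      have h := (H77.isolated_commute P.2 hxP hiso ha).eq
      show g * x * g⁻¹ * (g * a * g⁻¹) = g * a * g⁻¹ * (g * x * g⁻¹)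
      rw [conj_mul, conj_mul, h]
    obtain ⟨h, hh, hfix⟩ := H77.isolated_exists_fix (p := p) (H := centralizer ({g * a * g⁻¹} : Set L)) (g := g)
      ⟨1, by rw [hxo, pow_one]⟩ (mem_centralizer_singleton_iff.2 hxb.eq) (mem_centralizer_singleton_iff.2 hgx.eq)
      hiso
    refine ⟨h * g, mem_centralizer_singleton_iff.2 (mul_inv_eq_iff_eq_mul.1 hfix), ?_⟩
    calc h * g * a * (h * g)⁻¹ = h * (g * a * g⁻¹) * h⁻¹ := by group
      _ = g * a * g⁻¹ := by rw [mem_centralizer_singleton_iff.1 hh, mul_inv_cancel_right]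
  have h1 := hfoc.trans ((H5.focalSubgroup_le_of_control hctl).trans (commutator_mono hPC le_rfl))
  intro a ha
  obtain ⟨b, hb, hba⟩ := (Subgroup.map_subtype_commutator _).ge (h1 ha)
  rwa [← Subtype.ext hba]

theorem sylow_of_simple {G : Type u} [Group G] [Finite G] (hp2 : p ≠ 2) (hrk : Cfsg.PRankLE p 2 G) (x : G)
    (hxo : orderOf x = p) (hiso : Cfsg.IsIsolated x) (L : Subgroup G) (hs : IsSimpleGroup ↥L)
    (hna : ¬ IsMulCommutative ↥L) (P : Sylow p ↥L) :
    ((∀ g : G, g * x * g⁻¹ ∉ (P : Subgroup ↥L).map L.subtype) ∧ IsCyclic ↥(P : Subgroup ↥L)) ∨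
      ((∃ g : G, g * x * g⁻¹ ∈ (P : Subgroup ↥L).map L.subtype) ∧
        ((Cfsg.IsExtraspecial p ↥(P : Subgroup ↥L) ∧ Nat.card (P : Subgroup ↥L) = p ^ 3 ∧
            ∀ y ∈ (P : Subgroup ↥L), y ^ p = 1) ∨
         (p = 3 ∧ ∃ k : ℕ, 2 ≤ k ∧ Nat.card (P : Subgroup ↥L) = 3 ^ (2 * k + 1) ∧
            ∃ _ : Group.IsNilpotent ↥(P : Subgroup ↥L),
              Group.nilpotencyClass ↥(P : Subgroup ↥L) = 2 * k))) := by
  classical
  haveI := hs
  have hconjiso : ∀ g : G, Cfsg.IsIsolated (g * x * g⁻¹) := by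
    intro g h hc
    have h1 : Commute x (g⁻¹ * h * g * x * (g⁻¹ * h * g)⁻¹) := by
      have h2 := congrArg (fun t => g⁻¹ * t * g) hc.eq
      show x * _ = _ * x
      calc x * (g⁻¹ * h * g * x * (g⁻¹ * h * g)⁻¹)
          = g⁻¹ * (g * x * g⁻¹ * (h * (g * x * g⁻¹) * h⁻¹)) * g := by group
        _ = g⁻¹ * (h * (g * x * g⁻¹) * h⁻¹ * (g * x * g⁻¹)) * g := h2
        _ = _ := by group
    have h3 := hiso _ h1
    calc h * (g * x * g⁻¹) * h⁻¹ = g * (g⁻¹ * h * g * x * (g⁻¹ * h * g)⁻¹) * g⁻¹ := by group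
      _ = g * x * g⁻¹ := by rw [h3]
  have hconjo : ∀ g : G, orderOf (g * x * g⁻¹) = p := fun g => by
    rw [← hxo]; exact orderOf_injective (MulAut.conj g).toMonoidHom (MulAut.conj g).injective x
  by_cases hex : ∃ g : G, g * x * g⁻¹ ∈ (P : Subgroup ↥L).map L.subtype
  swap
  · push Not at hex
    refine Or.inl ⟨hex, ?_⟩
    by_contra hnc
    obtain ⟨E, hEn, hE, hEcard⟩ := H6.exists_normal_elementary_sq hp2 P.2 hnc
    obtain ⟨S, hS⟩ := (P.2.map L.subtype).exists_le_sylow
    obtain ⟨S0, hS0⟩ := (H77.isPGroup_zpowers (p := p) (x := x) ⟨1, by rw [hxo, pow_one]⟩).exists_le_sylow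
    obtain ⟨g, hg⟩ := MulAction.exists_smul_eq G S0 S
    have hxS : g * x * g⁻¹ ∈ (S : Subgroup G) := by
      rw [← hg]
      exact ⟨x, hS0 (mem_zpowers x), by simp⟩
    set f := L.subtype.comp (P : Subgroup ↥L).subtype with hf
    have hfinj : Function.Injective f := L.subtype_injective.comp (P : Subgroup ↥L).subtype_injective
    have hEP : E.map f ≤ (P : Subgroup ↥L).map L.subtype := by
      rintro _ ⟨a, -, rfl⟩
      exact ⟨_, a.2, rfl⟩
    have hmem := mem_of_rank hrk (A := E.map f) ?_ ?_ ?_ (g := g * x * g⁻¹) ?_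
      (by rw [← hconjo g, pow_orderOf_eq_one])
    · exact hex g (hEP hmem)
    · rintro _ ⟨a, ha, rfl⟩ _ ⟨b, hb, rfl⟩
      have h := congrArg Subtype.val (hE.1.is_comm.comm ⟨a, ha⟩ ⟨b, hb⟩)
      show f a * f b = f b * f a
      rw [← map_mul, ← map_mul]
      exact congrArg f h
    · rintro _ ⟨a, ha, rfl⟩
      rw [← map_pow, hE.2 a ha, map_one]
    · rw [card_map_of_injective hfinj, hEcard]
    · intro a ha
      exact H77.isolated_commute S.2 hxS (hconjiso g) (hS (hEP ha))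
  obtain ⟨g, hgP⟩ := hex
  refine Or.inr ⟨⟨g, hgP⟩, ?_⟩
  obtain ⟨y, hyP, hy⟩ := hgP
  have hy' : (y : G) = g * x * g⁻¹ := hy
  have hyiso : Cfsg.IsIsolated y := by
    intro h hc
    refine Subtype.ext ?_
    have h1 := hconjiso g (h : G)
    rw [← hy'] at h1
    exact h1 (congrArg Subtype.val hc)
  have hyo : orderOf y = p := by rw [← Subgroup.orderOf_coe, hy', hconjo]
  have htop : commutator ↥L = ⊤ := by
    refine (IsSimpleGroup.eq_bot_or_eq_top_of_normal (commutator ↥L) inferInstance).resolve_left fun h => hna ?_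
    refine ⟨⟨fun a b => ?_⟩⟩
    rw [← commutatorElement_eq_one_iff_mul_comm, ← mem_bot, ← h, _root_.commutator_def]
    exact commutator_mem_commutator (mem_top a) (mem_top b)
  have hPC : (P : Subgroup ↥L) ≤ centralizer ({y} : Set ↥L) := fun a ha =>
    mem_centralizer_singleton_iff.2 (H77.isolated_commute P.2 hyP hyiso ha).symm.eq
  have hder := le_commutator_centralizer htop P hyP hyo hyiso hPC
  set C := centralizer ({y} : Set ↥L) with hC
  set PC : Sylow p ↥C := P.subtype hPC with hPCdef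
  have hyC : y ∈ C := hPC hyP
  have hycen : (⟨y, hyC⟩ : ↥C) ∈ center ↥C := mem_center_iff.2 fun a =>
    Subtype.ext (mem_centralizer_singleton_iff.1 a.2)
  have hyPC : (⟨y, hyC⟩ : ↥C) ∈ (PC : Subgroup ↥C) := hyP
  have hrkC : Cfsg.PRankLE p 2 ↥C :=
    prank_of_injective (L.subtype.comp C.subtype) (L.subtype_injective.comp C.subtype_injective) hrk
  have hyPCo : orderOf (⟨⟨y, hyC⟩, hyPC⟩ : ↥(PC : Subgroup ↥C)) = p := by
    rw [Subgroup.orderOf_mk, Subgroup.orderOf_mk, hyo]
  have e : ↥(PC : Subgroup ↥C) ≃* ↥(P : Subgroup ↥L) := subgroupOfEquivOfLe hPC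
  haveI := PC.2.isNilpotent
  haveI := P.2.isNilpotent
  rcases sylow_structure hp2 hrkC PC hder ⟨⟨y, hyC⟩, hyPC⟩ hycen hyPCo with
    ⟨hext, hcard, hexp⟩ | ⟨hp3, k, hk, hcard, hcl⟩
  · have hexp' : ∀ v : ↥(P : Subgroup ↥L), v ^ p = 1 := fun v => by
      obtain ⟨w, rfl⟩ := e.surjective v
      rw [← map_pow, hexp w, map_one]
    have hcard' : Nat.card ↥(P : Subgroup ↥L) = p ^ 3 := by rw [← Nat.card_congr e.toEquiv, hcard]
    refine Or.inl ⟨extraspecial_of_cube hcard' (fun h => ?_) hexp', hcard', fun v hv => ?_⟩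
    · exact H30.extraspecial_not_isMulCommutative hext
        ⟨⟨fun a b => e.injective (by rw [map_mul, map_mul]; exact mul_comm' _ _)⟩⟩
    · exact congrArg Subtype.val (hexp' ⟨v, hv⟩)
  · refine Or.inr ⟨hp3, k, hk, by rw [← Nat.card_congr e.toEquiv, hcard], inferInstance, ?_⟩
    rw [← hcl]
    exact le_antisymm (Group.nilpotencyClass_le_of_surjective e.toMonoidHom e.surjective)
      (Group.nilpotencyClass_le_of_surjective e.symm.toMonoidHom e.symm.surjective)

end H81.Iso
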