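import Cfsg.Agent.H81.Hyp15
import Cfsg.Agent.H80.MainA
import Cfsg.Agent.S1403
import Cfsg.Agent.H80.Sec14a
import Cfsg.Agent.H1.BGMainC
import Cfsg.Agent.H82.Sec15e
import Cfsg.Agent.H83.SignalizerTau
import Cfsg.Agent.H83.Tau3Regular
import Cfsg.Agent.H80.Sec14b
import Cfsg.Agent.H80.Sec14c

/-!
The bundle of main theorems from sections 12, 13 and 14.2, with the shapes still open as hypotheses.
-/

set_option autoImplicit false

namespace H81

open Subgroup

universe u

variable {G : Type u} [Group G] [Finite G]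

/-- The bundle of sections 13 to 15. -/
theorem sec14_of (C : H82.Ctx G) (h12 : H80.Sec12 G) (h13 : H80.Sec13 G) (h30 : H80.Shape1430 G)
    (h31 : H80.Shape1431 G) (h40 : H80.Shape1440 G) : H80.Sec14 G := by
  have h29 := H80.shape1429 C
  have hH : H82.Hyp15 G := ⟨C, h12, h13, h29, h30, h31,
    H83.shape1366 C h12 h13 h30 h31 h29, H83.shape1369 C h12 h13 h30 h31 h29⟩
  exact
  { s1427 := h13.s1427
    s1428 := h13.s1428
    s1429 := h29
    s1430 := h30
    s1431 := h31
    s1432 := fun M hM x hx hx1 x' hx' hx'1 hσ =>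
      H83.sigma_dichotomy C h12 h30 h31 hM hx hx1 hx' hx'1 hσ
    s1433 := H83.shape1433 C h12 h13.sigmaDisjoint h30 h31
    s1434 := H83.shape1434 C h12 h13 h30 h31 h29
    s1435 := H83.shape1435 C h12 h13 h30 h31 h29
    s1436 := H83.shape1436 C h12 h13 h30 h31 h29
    s1437 := H82.shape1437 hH
    s1438 := H82.shape1438 hH
    s1439 := H82.shape1439 hH
    s1440 := h40 }

/-- The bundle of main theorems. -/
theorem mainThms_of (hG : Cfsg.IsMinSimpleOddOrder G) (C : H82.Ctx G) (h12 : H80.Sec12 G)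
    (h13 : H80.Sec13 G) (h30 : H80.Shape1430 G) (h31 : H80.Shape1431 G) (h40 : H80.Shape1440 G)
    (h63 : Shape1363 G) (h64 : Shape1364 G) (h65 : Shape1365 G) (h71 : Shape1371 G)
    (h72 : Shape1372 G) (h73 : Shape1373 G) : MainThms G := by
  have h29 := H80.shape1429 C
  have hH : H82.Hyp15 G := ⟨C, h12, h13, h29, h30, h31,
    H83.shape1366 C h12 h13 h30 h31 h29, H83.shape1369 C h12 h13 h30 h31 h29⟩
  exact
  { s1350 := H80.sigmaCore_hall_main hG (fun K hK h2 h3 => Cfsg.Agent.S1403.result hG K hK h2 h3)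
    s1351 := H1.shape1351 C h13.tau3Regular
    s1352 := H1.shape1352 C h30
    s1353 := H1.shape1353 h30
    s1354 := H1.shape1354 C h30
    s1355 := H82.shape1355 hH
    s1356 := H82.shape1356 hH
    s1357 := H82.shape1357 hH
    s1358 := H1.shape1358 C h12
    s1359 := H1.shape1359 C h12 h30
    s1360 := H1.shape1360 C h12 h30
    s1361 := H1.shape1361 C h12 h30
    s1362 := H1.shape1362 C h12 h30
    s1363 := h63
    s1364 := h64
    s1365 := h65
    s1366 := hH.s1366
    s1367 := H83.shape1367 C h12 h13 h30 h31 h29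
    s1368 := H83.shape1368 C h12 h13 h30 h31 h29
    s1369 := hH.s1369
    s1370 := H83.shape1370 C h12 h13 h30 h31 h29
    s1371 := h71
    s1372 := h72
    s1373 := h73
    s1374 := H83.shape1374 C h12 h13.sigmaDisjoint h30 h31
    s1375 := H83.shape1375 C h12 h13.sigmaDisjoint h30 h31
    sigmaDisjoint := h13.sigmaDisjoint
    sec12 := h12
    sec14 := sec14_of C h12 h13 h30 h31 h40 }

section

variable (hG : Cfsg.IsMinSimpleOddOrder G)
include hG

/-- BG 14.2, first part. -/
theorem shape1430_holds : H80.Shape1430 G := H80.shape1430 (H82.ctx hG) (H82.sec12 hG)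

/-- BG 14.2, second part. -/
theorem shape1431_holds : H80.Shape1431 G := H80.shape1431 (H82.ctx hG) (H82.sec12 hG)

/-- Section 13 in full. -/
theorem sec13_holds : H80.Sec13 G :=
  H83.sec13_of_core (H82.ctx hG) (H82.sec12 hG) (H80.sec13Core hG) (shape1430_holds hG)
    (shape1431_holds hG) (H80.shape1429 (H82.ctx hG))

/-- The input of section 15. -/
theorem hyp15_holds : H82.Hyp15 G :=
  ⟨H82.ctx hG, H82.sec12 hG, sec13_holds hG, H80.shape1429 (H82.ctx hG), shape1430_holds hG,
    shape1431_holds hG,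
    H83.shape1366 (H82.ctx hG) (H82.sec12 hG) (sec13_holds hG) (shape1430_holds hG)
      (shape1431_holds hG) (H80.shape1429 (H82.ctx hG)),
    H83.shape1369 (H82.ctx hG) (H82.sec12 hG) (sec13_holds hG) (shape1430_holds hG)
      (shape1431_holds hG) (H80.shape1429 (H82.ctx hG))⟩

/-- The bundle from a minimal simple group of odd order and the weak shape of S1440. -/
theorem mainThms_open (h40 : H80.Shape1440 G) : MainThms G :=
  mainThms_of hG (H82.ctx hG) (H82.sec12 hG) (sec13_holds hG) (shape1430_holds hG)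
    (shape1431_holds hG) h40
    (H1.shape1363 (H82.ctx hG) (H82.sec12 hG) (sec13_holds hG) (shape1430_holds hG) (shape1431_holds hG) (H80.shape1429 (H82.ctx hG)))
    (H1.shape1364 (H82.ctx hG) (H82.sec12 hG) (sec13_holds hG) (shape1430_holds hG) (shape1431_holds hG) (H80.shape1429 (H82.ctx hG)))
    (H1.shape1365 (H82.ctx hG) (H82.sec12 hG) (sec13_holds hG) (shape1430_holds hG) (shape1431_holds hG) (H80.shape1429 (H82.ctx hG)))
    (H1.shape1371 (H82.ctx hG) (H82.sec12 hG) (sec13_holds hG) (shape1430_holds hG) (shape1431_holds hG) (H80.shape1429 (H82.ctx hG)))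
    (H1.shape1372 (H82.ctx hG) (H82.sec12 hG) (sec13_holds hG) (shape1430_holds hG) (shape1431_holds hG) (H80.shape1429 (H82.ctx hG)) h40)
    (H1.shape1373 (H82.ctx hG) (H82.sec12 hG) (sec13_holds hG) (shape1430_holds hG) (shape1431_holds hG) (H80.shape1429 (H82.ctx hG)))

end

end H81
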